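import Cfsg.Agent.Lib.GL23.Model
import Cfsg.Agent.Lib.CosetEnum.Index

/-!
The amalgam of GL(2,3) and the symmetric group of degree 4 over a dihedral group of order 8: letters, relator
words and the coset-enumeration interface.

Letters: `0`, `1` are the upper unitriangular `a` and its inverse, `2` the permutation matrix `w`,
`3` the matrix `u = diag(1,-1)`, `4`, `5` the element `s` of order 3 and its inverse.
-/

set_option autoImplicit false
set_option maxRecDepth 8000

namespace CfsgLib.GL23.Amalgam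

open CfsgLib.CosetEnum

/-- The upper unitriangular element of order 3. -/
def la : M := ⟨!![1, 1; 0, 1], !![1, 2; 0, 1], by decide, by decide⟩
/-- The permutation matrix. -/
def lw : M := ⟨!![0, 1; 1, 0], !![0, 1; 1, 0], by decide, by decide⟩
/-- The diagonal reflection. -/
def lu : M := ⟨!![1, 0; 0, 2], !![1, 0; 0, 2], by decide, by decide⟩

/-- The letters of GL(2,3). -/
def mletter : ℕ → M
  | 0 => la
  | 1 => la⁻¹
  | 2 => lw
  | 3 => lu
  | _ => 1

/-- The code of a letter. -/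
def letterC : ℕ → ℕ
  | 0 => code la
  | 1 => code la⁻¹
  | 2 => code lw
  | 3 => code lu
  | _ => 28

/-- The code of a word. -/
def wordC (l : List ℕ) : ℕ := l.foldr (fun x c => mulC (letterC x) c) 28

theorem code_mletter (x : ℕ) : code (mletter x) = letterC x := by
  unfold mletter letterC
  split <;> first | rfl | exact code_one

theorem code_prod (l : List ℕ) : code (l.map mletter).prod = wordC l := by
  induction l with
  | nil => exact code_one
  | cons x l ih => rw [List.map_cons, List.prod_cons, code_mul, code_mletter, ih]; rfl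

theorem prod_eq_of_code {l : List ℕ} {m : M} (h : wordC l = code m) : (l.map mletter).prod = m :=
  code_injective ((code_prod l).trans h)

/-- The inverse table of the letters. -/
def ip : ℕ := ([1, 0, 2, 3, 5, 4, 6, 7, 8, 9, 10, 11, 12, 13, 14, 15] : List ℕ).foldr (fun d v => d + 16 * v) 0

/-- Short relators of GL(2,3). -/
def glWords : List (List ℕ) := 
  [[0, 0, 0],
   [2, 1, 2, 0, 2, 3, 0],
   [0, 0, 0],
   [1, 1, 1],
   [0, 3, 0, 3],
   [1, 3, 1, 3],
   [3, 0, 3, 0],
   [3, 1, 3, 1],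
   [0, 3, 1, 3, 0],
   [1, 3, 0, 3, 1],
   [2, 0, 0, 0, 2],
   [2, 1, 1, 1, 2],
   [2, 0, 3, 0, 3, 2],
   [2, 1, 3, 1, 3, 2],
   [2, 3, 0, 3, 0, 2],
   [2, 3, 1, 3, 1, 2],
   [0, 2, 0, 0, 0, 2, 1],
   [0, 2, 1, 1, 1, 2, 1],
   [0, 2, 1, 2, 0, 2, 3],
   [0, 2, 1, 3, 2, 1, 2],
   [0, 2, 3, 0, 2, 1, 2],
   [1, 2, 0, 0, 0, 2, 0],
   [1, 2, 0, 2, 3, 0, 2],
   [1, 2, 1, 1, 1, 2, 0],
   [1, 3, 2, 1, 2, 0, 2],
   [2, 0, 2, 1, 3, 2, 1],
   [2, 0, 2, 3, 0, 2, 1],
   [2, 0, 3, 1, 3, 0, 2],
   [2, 1, 2, 0, 2, 3, 0],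
   [2, 1, 3, 0, 3, 1, 2],
   [2, 1, 3, 2, 1, 2, 0],
   [3, 2, 0, 0, 0, 2, 3],
   [3, 2, 1, 1, 1, 2, 3],
   [3, 2, 1, 2, 0, 2, 1],
   [0, 2, 0, 2, 1, 3, 2, 0],
   [0, 2, 0, 2, 3, 0, 2, 0],
   [0, 2, 0, 3, 0, 3, 2, 1],
   [0, 2, 0, 3, 1, 2, 1, 2],
   [0, 2, 3, 1, 3, 1, 2, 1],
   [0, 2, 3, 2, 0, 2, 3, 2],
   [0, 3, 2, 1, 2, 0, 2, 0],
   [1, 2, 0, 3, 0, 3, 2, 0],
   [1, 2, 1, 2, 0, 2, 3, 1],
   [1, 2, 1, 3, 2, 1, 2, 1],
   [1, 2, 3, 0, 2, 1, 2, 1],
   [1, 2, 3, 1, 3, 1, 2, 0],
   [1, 2, 3, 2, 1, 2, 3, 2],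
   [1, 3, 2, 0, 0, 2, 0, 2],
   [2, 0, 2, 0, 3, 1, 2, 1],
   [2, 1, 2, 1, 1, 2, 3, 0],
   [2, 1, 2, 3, 2, 1, 2, 3],
   [2, 3, 2, 0, 2, 3, 2, 0],
   [2, 3, 2, 1, 2, 3, 2, 1],
   [2, 3, 2, 3, 2, 3, 2, 3],
   [3, 2, 0, 2, 3, 2, 0, 2],
   [3, 2, 0, 3, 0, 3, 2, 3],
   [3, 2, 1, 3, 1, 3, 2, 3],
   [3, 2, 3, 0, 3, 0, 2, 3],
   [3, 2, 3, 1, 3, 1, 2, 3],
   [3, 2, 3, 2, 3, 2, 3, 2]]

/-- A word for `-1`. -/
def wt : List ℕ := [2, 3, 2, 3]
/-- A word for the lower unitriangular element. -/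
def wa' : List ℕ := [2, 0, 2]
/-- A word for an element conjugating `u` to `w`. -/
def wh : List ℕ := [0, 2, 0, 3]

/-- Relators of the amalgam. -/
def amalWords : List (List ℕ) :=
  [[4, 4, 4], [4] ++ wt ++ [5, 3], [4, 3, 5, 3] ++ invWord ip wt, [2, 4, 2, 4]]

/-- The commutator of `a` with `s c s⁻¹`. -/
def commWord (c : List ℕ) : List ℕ :=
  [0] ++ ([4] ++ c ++ [5]) ++ [1] ++ invWord ip ([4] ++ c ++ [5])

/-- The element `s⁻¹ h s`. -/
def wk : List ℕ := [5] ++ wh ++ [4]

/-- The relator `a y = k c k⁻¹`. -/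
def diagWord (c : List ℕ) : List ℕ :=
  [0] ++ ([4] ++ wa' ++ [5]) ++ wk ++ invWord ip c ++ invWord ip wk

/-- First stage relators. -/
def firstWords (c : List ℕ) : List (List ℕ) := glWords ++ amalWords ++ [commWord c]

/-- Second stage relators. -/
def secondWords (c : List ℕ) : List (List ℕ) :=
  glWords ++ amalWords ++ [commWord wa', diagWord c]

theorem glWords_ok : ∀ l ∈ glWords, (∀ x ∈ l, x < 4) ∧ wordC l = 28 := by decide +kernel

variable {X : Type*} [Group X] (j : M →* X) (s : X)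

/-- The letters in `X`. -/
def letter : ℕ → X
  | 4 => s
  | 5 => s⁻¹
  | x => j (mletter x)

theorem letter_four : letter j s 4 = s := rfl
theorem letter_five : letter j s 5 = s⁻¹ := rfl

theorem letter_gl {x : ℕ} (hx : x < 4) : letter j s x = j (mletter x) := by
  match x, hx with
  | 0, _ => rfl
  | 1, _ => rfl
  | 2, _ => rfl
  | 3, _ => rfl

theorem prod_gl {l : List ℕ} (hl : ∀ x ∈ l, x < 4) :
    (l.map (letter j s)).prod = j (l.map mletter).prod := by
  rw [map_list_prod, List.map_map]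
  exact congrArg List.prod (List.map_congr_left fun x hx => letter_gl j s (hl x hx))

theorem letter_fifteen : letter j s 15 = 1 := map_one j

theorem letter_of_six_le {x : ℕ} (hx : 6 ≤ x) : letter j s x = 1 := by
  obtain ⟨k, rfl⟩ := Nat.exists_eq_add_of_le' hx
  exact map_one j

theorem letter_linv (x : ℕ) (hx : x < 16) : letter j s (linv ip x) = (letter j s x)⁻¹ := by
  have hw : lw⁻¹ = lw := by decide +kernel
  have hu : lu⁻¹ = lu := by decide +kernel
  rcases Nat.lt_or_ge x 6 with h | h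
  · interval_cases x
    · rw [show linv ip 0 = 1 by decide +kernel]; exact map_inv j la
    · rw [show linv ip 1 = 0 by decide +kernel]
      show j la = (j la⁻¹)⁻¹
      rw [map_inv, inv_inv]
    · rw [show linv ip 2 = 2 by decide +kernel]
      show j lw = (j lw)⁻¹
      rw [← map_inv, hw]
    · rw [show linv ip 3 = 3 by decide +kernel]
      show j lu = (j lu)⁻¹
      rw [← map_inv, hu]
    · rw [show linv ip 4 = 5 by decide +kernel]; rfl
    · rw [show linv ip 5 = 4 by decide +kernel]; exact (inv_inv s).symm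
  · have h2 : ∀ y, y < 16 → 6 ≤ y → linv ip y = y := by decide +kernel
    rw [h2 x hx h, letter_of_six_le j s h, inv_one]

/-- Words for all elements of GL(2,3). -/
def genWords : List (List ℕ) :=
  [[],
   [0],
   [1],
   [2],
   [3],
   [0, 2],
   [0, 3],
   [1, 2],
   [1, 3],
   [2, 0],
   [2, 1],
   [2, 3],
   [3, 2],
   [0, 2, 0],
   [0, 2, 1],
   [0, 2, 3],
   [0, 3, 2],
   [1, 2, 0],
   [1, 2, 1],
   [1, 2, 3],
   [1, 3, 2],
   [2, 0, 2],
   [2, 0, 3],
   [2, 1, 2],
   [2, 1, 3],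
   [2, 3, 2],
   [3, 2, 0],
   [3, 2, 1],
   [3, 2, 3],
   [0, 2, 0, 2],
   [0, 2, 0, 3],
   [0, 2, 3, 2],
   [0, 3, 2, 0],
   [0, 3, 2, 1],
   [0, 3, 2, 3],
   [1, 2, 0, 3],
   [1, 2, 3, 2],
   [1, 3, 2, 0],
   [1, 3, 2, 3],
   [2, 0, 3, 2],
   [2, 1, 2, 3],
   [2, 3, 2, 3],
   [3, 2, 0, 3],
   [3, 2, 1, 3],
   [0, 2, 0, 3, 2],
   [0, 2, 3, 2, 3],
   [0, 3, 2, 1, 3],
   [1, 2, 3, 2, 3]]

/-- Every element of GL(2,3) is a word in the letters. -/
theorem exists_genWord : ∀ c ∈ codeList, ∃ l ∈ genWords, (∀ x ∈ l, x < 4) ∧ wordC l = c := by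
  decide +kernel

/-- The subgroup generated by the image of GL(2,3) and `s`. -/
def span : Subgroup X := j.range ⊔ Subgroup.zpowers s

theorem span_le_closure : span j s ≤ Subgroup.closure (letter j s '' Set.Iio 16) := by
  have hm : ∀ x < 16, letter j s x ∈ Subgroup.closure (letter j s '' Set.Iio 16) := fun x hx =>
    Subgroup.subset_closure ⟨x, hx, rfl⟩
  refine sup_le ?_ (Subgroup.zpowers_le.mpr (hm 4 (by norm_num)))
  rintro _ ⟨m, rfl⟩
  obtain ⟨l, -, hl, hc⟩ := exists_genWord _ (code_mem m)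
  rw [← prod_eq_of_code hc, ← prod_gl j s hl]
  refine Subgroup.list_prod_mem _ fun y hy => ?_
  obtain ⟨x, hx, rfl⟩ := List.mem_map.mp hy
  exact hm x ((hl x hx).trans (by norm_num))

/-- The defining relations of the amalgam. -/
structure IsAmal : Prop where
  cube : s * s * s = 1
  t_u : s * j (-1) * s⁻¹ = j lu
  u_tu : s * j lu * s⁻¹ = j (-1) * j lu
  w_inv : j lw * s * j lw * s = 1

variable {j s}

theorem prod_gl_code {l : List ℕ} {m : M} (hl : ∀ x ∈ l, x < 4) (h : wordC l = code m) :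
    (l.map (letter j s)).prod = j m := by rw [prod_gl j s hl, prod_eq_of_code h]

theorem prod_inv {l : List ℕ} (hl : ∀ x ∈ l, x < 16) :
    ((invWord ip l).map (letter j s)).prod = ((l.map (letter j s)).prod)⁻¹ :=
  prod_invWord (letter_linv j s) l hl

theorem amal_ok (h : IsAmal j s) :
    ∀ l ∈ glWords ++ amalWords, (∀ x ∈ l, x < 16) ∧ (l.map (letter j s)).prod = 1 := by
  have lt : ∀ l ∈ amalWords, ∀ x ∈ l, x < 16 := by decide +kernel
  have hlu : lu * lu = 1 := by decide +kernel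
  have ht : ((wt.map (letter j s)).prod) = j (-1) := prod_gl_code (by decide) (by decide +kernel)
  intro l hl
  rcases List.mem_append.mp hl with hl | hl
  · obtain ⟨h4, h28⟩ := glWords_ok l hl
    exact ⟨fun x hx => (h4 x hx).trans (by norm_num),
      (prod_gl_code h4 (h28.trans code_one.symm)).trans (map_one j)⟩
  refine ⟨lt l hl, ?_⟩
  have l2 : letter j s 2 = j lw := rfl
  have l3 : letter j s 3 = j lu := rfl
  simp only [amalWords, List.mem_cons, List.not_mem_nil, or_false] at hl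
  rcases hl with rfl | rfl | rfl | rfl
  · simpa [letter_four, mul_assoc] using h.cube
  · simp only [List.map_append, List.map_cons, List.map_nil, List.prod_append, List.prod_cons,
      List.prod_nil, mul_one, ht, letter_four, letter_five, l3]
    rw [← mul_assoc, h.t_u, ← map_mul, hlu, map_one]
  · rw [List.map_append, List.prod_append, prod_inv (by decide), ht]
    simp only [List.map_cons, List.map_nil, List.prod_cons, List.prod_nil, mul_one, letter_four,
      letter_five, l3]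
    rw [← mul_assoc, ← mul_assoc, h.u_tu, mul_assoc (j (-1)), ← map_mul, hlu, map_one, mul_one,
      mul_inv_cancel]
  · simpa [letter_four, l2, mul_assoc] using h.w_inv

/-- The data of one enumeration. -/
structure Cert where
  /-- number of cosets -/
  n : ℕ
  /-- number of defining facts, plus one -/
  N : ℕ
  /-- number of facts -/
  nf : ℕ
  /-- width of the word codes -/
  wb : ℕ
  F : Tr
  W : Tr
  S : Tr
  L : Tr
  E : Tr
  T : List Tr
  items : List (List ℕ)

/-- Check a list of chunks of items. -/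
noncomputable def checkChunks (c : Cert) : List (List ℕ) → ℕ → Bool :=
  List.rec (fun _ => true) (fun it _ ih j => strict j fun j =>
    checkFacts c.F ip c.W c.wb c.S c.N it j && ih (j + it.length))

theorem checkChunks_spec (c : Cert) : ∀ (cs : List (List ℕ)) (j : ℕ), checkChunks c cs j = true →
    ∀ i, j ≤ i → i < j + cs.flatten.length → ∃ item, checkFact c.F ip c.W c.wb c.S c.N i item = true := by
  intro cs
  induction cs with
  | nil => intro j _ i h1 h2; simp at h2; omega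
  | cons it rest ih =>
    intro j h i h1 h2
    unfold checkChunks at h
    simp only [strict_eq, Bool.and_eq_true] at h
    rcases Nat.lt_or_ge i (j + it.length) with hlt | hge
    · exact checkFacts_spec _ _ _ _ _ _ it j h.1 i h1 hlt
    · refine ih (j + it.length) ?_ i hge (by simp only [List.flatten_cons, List.length_append] at h2; omega)
      unfold checkChunks
      simp only [strict_eq]
      exact h.2

/-- The total number of items. -/
noncomputable def total : List (List ℕ) → ℕ := List.rec 0 fun it _ ih => it.length + ih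

theorem total_eq (cs : List (List ℕ)) : total cs = cs.flatten.length := by
  induction cs with
  | nil => rfl
  | cons it cs ih => rw [List.flatten_cons, List.length_append, ← ih]; rfl

/-- The whole check. -/
noncomputable def Cert.check (c : Cert) (ls : List (List ℕ)) : Bool :=
  Nat.beq c.T.length 6 && Nat.blt 0 c.n && c.W.fits c.wb 16 &&
    listEq (c.W.entries c.wb 16) (allCodes ip 6 ls) && c.S.fits c.wb 16 &&
    listEq (c.S.entries c.wb 16) (subCodes ip [[0], [2], [3]]) &&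
    Nat.beq (total c.items) c.nf && checkChunks c c.items 0 && Nat.beq (c.L.get 20 0) 0 &&
    allFrom (fun k => checkRow c.F ip c.L c.E c.n 6 c.nf k c.T 0) c.n 0

theorem Cert.covers (c : Cert) {ls : List (List ℕ)} (hc : c.check ls = true)
    (hls : ∀ l ∈ ls, (∀ x ∈ l, x < 16) ∧ (l.map (letter j s)).prod = 1) :
    CoversCosets (span j s) j.range c.n := by
  simp only [Cert.check, Bool.and_eq_true] at hc
  obtain ⟨⟨⟨⟨⟨⟨⟨⟨⟨hT, hn⟩, hWf⟩, hWe⟩, hSf⟩, hSe⟩, hnf⟩, hch⟩, hL⟩, hrows⟩ := hc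
  have hT := Nat.eq_of_beq_eq_true hT
  refine coversCosets_of_cert (g := letter j s) (ip := ip) (letter_fifteen j s) (letter_linv j s) 6
    (by norm_num) (fun x _ => ?_) _ _ (span_le_closure j s) ls hls [[0], [2], [3]] ?_
    c.F c.W c.S c.L c.E c.T c.wb 16 16 c.N c.nf c.n hT (Nat.le_of_ble_eq_true hn) hWf hWe hSf hSe
    (fun i hi => checkChunks_spec c _ 0 hch i (Nat.zero_le _)
      (by rw [← total_eq, Nat.eq_of_beq_eq_true hnf]; omega))
    hL (fun k hk => allFrom_spec _ _ _ hrows k (Nat.zero_le _) (by omega))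
  · rcases Nat.lt_or_ge x 6 with h | h
    · exact Or.inl h
    · exact Or.inr (letter_of_six_le j s h)
  · simp only [List.mem_cons, List.not_mem_nil, or_false]
    rintro l (rfl | rfl | rfl) <;> exact ⟨by simp, ⟨_, (mul_one _).symm⟩⟩

theorem Cert.card_le (c : Cert) {ls : List (List ℕ)} (hc : c.check ls = true)
    (hls : ∀ l ∈ ls, (∀ x ∈ l, x < 16) ∧ (l.map (letter j s)).prod = 1) :
    Finite (span j s) ∧ Nat.card (span j s) ≤ c.n * 48 := by
  have hfin : Finite j.range := Finite.of_surjective _ j.rangeRestrict_surjective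
  have h48 : Nat.card j.range ≤ 48 := by
    have := Nat.card_le_card_of_surjective _ j.rangeRestrict_surjective
    rwa [Nat.card_eq_fintype_card (α := M), card_M] at this
  obtain ⟨h1, h2⟩ := (c.covers hc hls).card_le
  exact ⟨h1, h2.trans (Nat.mul_le_mul_left _ h48)⟩

end CfsgLib.GL23.Amalgam
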