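import Mathlib.Algebra.BigOperators.Ring.Finset
import Mathlib.Algebra.Order.BigOperators.Group.Finset
import Mathlib.Algebra.BigOperators.Field
import Mathlib.Data.Rat.Cast.Order
import Mathlib.NumberTheory.Divisors
import Mathlib.Tactic.FieldSimp
import Mathlib.Tactic.LinearCombination
import Mathlib.Tactic.Linarith
import Mathlib.Tactic.IntervalCases
import Mathlib.Tactic.Ring
import Mathlib.Tactic.NormNum

/-!
# The combinatorics and arithmetic of the five exceptional virtual characters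
-/

set_option autoImplicit false

namespace CfsgLib.GL23

open Finset

variable {ι : Type*} [Fintype ι] [DecidableEq ι]

theorem sq_le_of_norm {c : ι → ℤ} {m : ℤ} (h : ∑ x, c x * c x = m) (s : Finset ι) :
    ∑ x ∈ s, c x * c x ≤ m :=
  h ▸ Finset.sum_le_sum_of_subset_of_nonneg (Finset.subset_univ s) fun _ _ _ => mul_self_nonneg _

theorem exists_sign_one {c : ι → ℤ} {s : Finset ι} (h : ∑ x ∈ s, c x * c x = 1) :
    ∃ a ∈ s, (c a = 1 ∨ c a = -1) ∧ ∀ x ∈ s, x ≠ a → c x = 0 := by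
  obtain ⟨a, ha, ha0⟩ : ∃ a ∈ s, c a ≠ 0 := by
    by_contra hcon
    push Not at hcon
    rw [Finset.sum_eq_zero fun x hx => by rw [hcon x hx]; ring] at h
    norm_num at h
  rw [← Finset.add_sum_erase s _ ha] at h
  have h1 : 1 ≤ c a * c a := Int.add_one_le_iff.mpr (mul_self_pos.mpr ha0)
  have h2 : 0 ≤ ∑ x ∈ s.erase a, c x * c x := Finset.sum_nonneg fun _ _ => mul_self_nonneg _
  have h3 : c a * c a = 1 := by linarith
  have h4 : ∑ x ∈ s.erase a, c x * c x = 0 := by linarith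
  refine ⟨a, ha, Int.eq_one_or_neg_one_of_mul_eq_one h3, fun x hx hxa => ?_⟩
  exact mul_self_eq_zero.mp
    ((Finset.sum_eq_zero_iff_of_nonneg fun _ _ => mul_self_nonneg _).mp h4 x
      (Finset.mem_erase.mpr ⟨hxa, hx⟩))

theorem exists_sign_two {c : ι → ℤ} {s : Finset ι} (h : ∑ x ∈ s, c x * c x = 2) :
    ∃ a ∈ s, ∃ b ∈ s, a ≠ b ∧ (c a = 1 ∨ c a = -1) ∧ (c b = 1 ∨ c b = -1) ∧
      ∀ x ∈ s, x ≠ a → x ≠ b → c x = 0 := by
  obtain ⟨a, ha, ha0⟩ : ∃ a ∈ s, c a ≠ 0 := by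
    by_contra hcon
    push Not at hcon
    rw [Finset.sum_eq_zero fun x hx => by rw [hcon x hx]; ring] at h
    norm_num at h
  rw [← Finset.add_sum_erase s _ ha] at h
  have h2 : 0 ≤ ∑ x ∈ s.erase a, c x * c x := Finset.sum_nonneg fun _ _ => mul_self_nonneg _
  have h3 : c a * c a = 1 := by
    have hb : c a ≤ 1 ∧ -1 ≤ c a := by constructor <;> nlinarith
    rcases (show c a = 1 ∨ c a = -1 by omega) with h' | h' <;> rw [h'] <;> norm_num
  have h4 : ∑ x ∈ s.erase a, c x * c x = 1 := by linarith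
  obtain ⟨b, hb, hb1, hrest⟩ := exists_sign_one h4
  refine ⟨a, ha, b, Finset.mem_of_mem_erase hb, (Finset.ne_of_mem_erase hb).symm,
    Int.eq_one_or_neg_one_of_mul_eq_one h3, hb1, fun x hx hxa hxb => ?_⟩
  exact hrest x (Finset.mem_erase.mpr ⟨hxa, hx⟩) hxb

theorem sum_eq_of_support {M : Type*} [AddCommMonoid M] {f : ι → M} (s : Finset ι)
    (h : ∀ x, x ∉ s → f x = 0) : ∑ x, f x = ∑ x ∈ s, f x :=
  (Finset.sum_subset (Finset.subset_univ s) fun x _ hx => h x hx).symm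

omit [Fintype ι] in
theorem sum_eq_of_support_aux (f : ι → ℤ) {s : Finset ι} {a b : ι} (ha : a ∈ s) (hb : b ∈ s)
    (hab : a ≠ b) (h : ∀ x ∈ s, x ≠ a → x ≠ b → f x = 0) : ∑ x ∈ s, f x = f a + f b := by
  rw [← Finset.sum_pair hab]
  refine (Finset.sum_subset (by simp [Finset.insert_subset_iff, ha, hb]) fun x hx hx' => ?_).symm
  simp only [Finset.mem_insert, Finset.mem_singleton, not_or] at hx'
  exact h x hx hx'.1 hx'.2

omit [Fintype ι] [DecidableEq ι] in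
theorem sign_mul_self {p : ℤ} (hp : p = 1 ∨ p = -1) : p * p = 1 := by
  rcases hp with h | h <;> rw [h] <;> norm_num

/-- The final equation in integers. -/
theorem order_cases {g : ℕ} {A Q : ℤ} (hs1 : 1 + A + Q ≠ 0) (h16 : 16 ∣ g) (h32 : ¬ 32 ∣ g)
    (hg : (g : ℤ) * (A * (1 + A) + 16 * (1 + A) - 9 * A) = 9216 * A * (1 + A))
    (heq : (Q + A) * ((1 + A) * Q - 9 * Q - 9 * (1 + A)) + (1 + A) * Q = 0) :
    g = 5616 ∨ g = 7920 := by
  have hfac : (1 + A + Q) * ((1 + A - 9) * (Q - 9) - 72) = 0 := by linear_combination heq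
  have h72 : (1 + A - 9) * (Q - 9) = 72 :=
    sub_eq_zero.mp ((mul_eq_zero.mp hfac).resolve_left hs1)
  obtain ⟨k, hk⟩ : ∃ k : ℤ, 1 + A - 9 = k := ⟨_, rfl⟩
  have hA : A = k + 8 := by omega
  subst hA
  have hdvd : k.natAbs ∈ Nat.divisors 72 := by
    rw [hk] at h72
    refine Nat.mem_divisors.mpr ⟨?_, by norm_num⟩
    have h : k ∣ 72 := ⟨Q - 9, h72.symm⟩
    simpa using Int.natAbs_dvd_natAbs.mpr h
  have hlist : Nat.divisors 72 = {1, 2, 3, 4, 6, 8, 9, 12, 18, 24, 36, 72} := by decide +kernel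
  rw [hlist] at hdvd
  simp only [Finset.mem_insert, Finset.mem_singleton] at hdvd
  rcases hdvd with h | h | h | h | h | h | h | h | h | h | h | h <;>
    rcases Int.natAbs_eq k with hk' | hk' <;>
    · rw [h] at hk'
      subst hk'
      (norm_num at hg) <;> omega

/-- The hypotheses satisfied by the multiplicities of the five virtual characters. -/
structure Data (ι : Type*) [Fintype ι] where
  c : Fin 5 → ι → ℤ
  d : ι → ℕ
  o : ι
  g : ℕ
  d_pos : ∀ x, 0 < d x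
  d_o : d o = 1
  linear : ∀ x, d x = 1 → x = o
  c_o : c 0 o = 1 ∧ c 1 o = 0 ∧ c 2 o = 0 ∧ c 3 o = 0 ∧ c 4 o = 1
  gram00 : ∑ x, c 0 x * c 0 x = 3
  gram11 : ∑ x, c 1 x * c 1 x = 3
  gram22 : ∑ x, c 2 x * c 2 x = 2
  gram33 : ∑ x, c 3 x * c 3 x = 2
  gram44 : ∑ x, c 4 x * c 4 x = 3
  gram01 : ∑ x, c 0 x * c 1 x = 1
  gram02 : ∑ x, c 0 x * c 2 x = 0
  gram03 : ∑ x, c 0 x * c 3 x = 0
  gram04 : ∑ x, c 0 x * c 4 x = 1
  gram12 : ∑ x, c 1 x * c 2 x = 0
  gram13 : ∑ x, c 1 x * c 3 x = 0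
  gram14 : ∑ x, c 1 x * c 4 x = -1
  gram23 : ∑ x, c 2 x * c 3 x = -1
  gram24 : ∑ x, c 2 x * c 4 x = 1
  gram34 : ∑ x, c 3 x * c 4 x = 0
  deg : ∀ i, ∑ x, c i x * (d x : ℤ) = 0
  row : ∀ i : Fin 5, (i = 0 ∨ i = 1) → (g : ℚ) * ∑ x, (c i x : ℚ) *
    ((3 * c 0 x + c 1 x + 4 * c 2 x + 2 * c 3 x - 2 * c 4 x : ℤ) : ℚ) ^ 2 / (d x : ℚ) = 9216
  g16 : 16 ∣ g
  g32 : ¬ 32 ∣ g

/-- The core configuration of three characters shared by the last three virtual characters. -/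
theorem Data.exists_triple (D : Data ι) :
    ∃ X X' Y : ι, ∃ δ : ℤ, (δ = 1 ∨ δ = -1) ∧ X ≠ X' ∧ Y ≠ X ∧ Y ≠ X' ∧
      D.d X' = D.d X ∧ D.d Y = D.d X ∧
      D.c 2 X = -δ ∧ D.c 2 X' = 0 ∧ D.c 2 Y = δ ∧ (∀ x, x ≠ X → x ≠ Y → D.c 2 x = 0) ∧
      D.c 3 X = δ ∧ D.c 3 X' = -δ ∧ (∀ x, x ≠ X → x ≠ X' → D.c 3 x = 0) := by
  obtain ⟨a, -, b, -, hab, ha, hb, hz3⟩ := exists_sign_two D.gram33
  obtain ⟨u, -, v, -, huv, hu, hv, hz2⟩ := exists_sign_two D.gram22
  replace hz3 : ∀ x, x ≠ a → x ≠ b → D.c 3 x = 0 := fun x => hz3 x (Finset.mem_univ x)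
  replace hz2 : ∀ x, x ≠ u → x ≠ v → D.c 2 x = 0 := fun x => hz2 x (Finset.mem_univ x)
  have hd : D.c 3 a = -D.c 3 b ∧ D.d a = D.d b := by
    have h := D.deg 3
    rw [sum_eq_of_support {a, b} (fun x hx => by
      simp only [Finset.mem_insert, Finset.mem_singleton, not_or] at hx
      rw [hz3 x hx.1 hx.2, zero_mul]), Finset.sum_pair hab] at h
    have := D.d_pos a
    have := D.d_pos b
    rcases ha with ha | ha <;> rcases hb with hb | hb <;> rw [ha, hb] at h ⊢ <;>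
      refine ⟨?_, ?_⟩ <;> omega
  have hd' : D.c 2 u = -D.c 2 v ∧ D.d u = D.d v := by
    have h := D.deg 2
    rw [sum_eq_of_support {u, v} (fun x hx => by
      simp only [Finset.mem_insert, Finset.mem_singleton, not_or] at hx
      rw [hz2 x hx.1 hx.2, zero_mul]), Finset.sum_pair huv] at h
    have := D.d_pos u
    have := D.d_pos v
    rcases hu with hu | hu <;> rcases hv with hv | hv <;> rw [hu, hv] at h ⊢ <;>
      refine ⟨?_, ?_⟩ <;> omega
  have h23 := D.gram23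
  rw [sum_eq_of_support {a, b} (fun x hx => by
      simp only [Finset.mem_insert, Finset.mem_singleton, not_or] at hx
      rw [hz3 x hx.1 hx.2, mul_zero]), Finset.sum_pair hab] at h23
  -- the shared point `X`, the other point `X'` of the fourth and `Y` of the third
  obtain ⟨X, X', hX, hXX', hδ, hX'c, hdd, hz3'⟩ : ∃ X X' : ι, D.c 2 X = -D.c 3 X ∧ X ≠ X' ∧
      (D.c 3 X = 1 ∨ D.c 3 X = -1) ∧ D.c 3 X' = -D.c 3 X ∧ D.d X' = D.d X ∧
      (∀ x, x ≠ X → x ≠ X' → D.c 3 x = 0) := by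
    have hb2 : ∀ x, D.c 2 x = 0 ∨ D.c 2 x = 1 ∨ D.c 2 x = -1 := fun x => by
      by_cases h1 : x = u
      · rw [h1]; tauto
      by_cases h2 : x = v
      · rw [h2]; tauto
      exact Or.inl (hz2 x h1 h2)
    by_cases hea : D.c 2 a = -D.c 3 a
    · exact ⟨a, b, hea, hab, ha, by omega, hd.2.symm, hz3⟩
    by_cases heb : D.c 2 b = -D.c 3 b
    · exact ⟨b, a, heb, hab.symm, hb, by omega, hd.2, fun x h1 h2 => hz3 x h2 h1⟩
    exfalso
    rcases ha with ha | ha <;> rcases hb with hb | hb <;> rcases hb2 a with h1 | h1 | h1 <;>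
      rcases hb2 b with h2 | h2 | h2 <;> rw [ha, hb, h1, h2] at h23 <;> omega
  have hX'2 : D.c 2 X' = 0 := by
    have h := D.gram23
    rw [sum_eq_of_support {X, X'} (fun x hx => by
        simp only [Finset.mem_insert, Finset.mem_singleton, not_or] at hx
        rw [hz3' x hx.1 hx.2, mul_zero]), Finset.sum_pair hXX', hX, hX'c] at h
    rcases hδ with h' | h' <;> rw [h'] at h <;> omega
  have hXuv : X = u ∨ X = v := by
    by_contra hcon
    push Not at hcon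
    rw [hz2 X hcon.1 hcon.2] at hX
    omega
  obtain ⟨Y, hYX, hYd, hYc, hz2'⟩ : ∃ Y, Y ≠ X ∧ D.d Y = D.d X ∧ D.c 2 Y = D.c 3 X ∧
      (∀ x, x ≠ X → x ≠ Y → D.c 2 x = 0) := by
    rcases hXuv with rfl | rfl
    · exact ⟨v, huv.symm, hd'.2.symm, by omega, hz2⟩
    · exact ⟨u, huv, hd'.2, by omega, fun x h1 h2 => hz2 x h2 h1⟩
  refine ⟨X, X', Y, D.c 3 X, hδ, hXX', hYX, ?_, hdd, hYd, hX, hX'2, hYc, hz2', rfl, hX'c, hz3'⟩
  rintro rfl
  omega

/-- The order of the group. -/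
theorem Data.order_eq (D : Data ι) : D.g = 5616 ∨ D.g = 7920 := by
  obtain ⟨X, X', Y, δ, hδ, hXX', hYX, hYX', hdX', hdY, h2X, h2X', h2Y, hz2, h3X, h3X', hz3⟩ :=
    D.exists_triple
  obtain ⟨ho0, ho1, ho2, ho3, ho4⟩ := D.c_o
  have hdXpos := D.d_pos X
  have hδne : δ ≠ 0 := by omega
  have hoX : D.o ≠ X := fun h => by rw [← h, ho3] at h3X; omega
  have hoX' : D.o ≠ X' := fun h => by rw [← h, ho3] at h3X'; omega
  have hoY : D.o ≠ Y := fun h => by rw [← h, ho2] at h2Y; omega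
  set T : Finset ι := {X, X', Y} with hT
  have hsumT : ∀ f : ι → ℤ, ∑ x ∈ T, f x = f X + (f X' + f Y) := by
    intro f
    rw [hT, Finset.sum_insert (by simp [hXX', hYX.symm]), Finset.sum_pair hYX'.symm]
  have hsum3 : ∀ f : ι → ℤ, ∑ x, f x * D.c 3 x = f X * δ - f X' * δ := by
    intro f
    rw [sum_eq_of_support {X, X'} (fun x hx => by
      simp only [Finset.mem_insert, Finset.mem_singleton, not_or] at hx
      rw [hz3 x hx.1 hx.2, mul_zero]), Finset.sum_pair hXX', h3X, h3X']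
    ring
  have hsum2 : ∀ f : ι → ℤ, ∑ x, f x * D.c 2 x = f Y * δ - f X * δ := by
    intro f
    rw [sum_eq_of_support {X, Y} (fun x hx => by
      simp only [Finset.mem_insert, Finset.mem_singleton, not_or] at hx
      rw [hz2 x hx.1 hx.2, mul_zero]), Finset.sum_pair hYX.symm, h2X, h2Y]
    ring
  have hsplit : ∀ f : ι → ℤ, ∑ x, f x = f D.o + ∑ x ∈ T, f x + ∑ x ∈ (insert D.o T)ᶜ, f x := by
    intro f
    rw [← Finset.sum_add_sum_compl (insert D.o T) f, Finset.sum_insert (by simp [hT, hoX, hoX', hoY])]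
  have hrest2 : ∀ x, x ∈ (insert D.o T)ᶜ → D.c 2 x = 0 ∧ D.c 3 x = 0 := by
    intro x hx
    simp only [hT, Finset.mem_compl, Finset.mem_insert, Finset.mem_singleton, not_or] at hx
    exact ⟨hz2 x hx.2.1 hx.2.2.2, hz3 x hx.2.1 hx.2.2.1⟩
  -- the fifth virtual character
  have h4X : D.c 4 X' = D.c 4 X := by
    have h := D.gram34
    simp only [mul_comm (D.c 3 _) (D.c 4 _)] at h
    rw [hsum3] at h
    rcases hδ with h' | h' <;> rw [h'] at h <;> omega
  have h4Y : D.c 4 Y = D.c 4 X + δ := by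
    have h := D.gram24
    simp only [mul_comm (D.c 2 _) (D.c 4 _)] at h
    rw [hsum2] at h
    rcases hδ with h' | h' <;> rw [h'] at h ⊢ <;> omega
  have h44 := D.gram44
  rw [hsplit, hsumT, ho4] at h44
  have hn4 : 0 ≤ ∑ x ∈ (insert D.o T)ᶜ, D.c 4 x * D.c 4 x :=
    Finset.sum_nonneg fun _ _ => mul_self_nonneg _
  have h4X0 : D.c 4 X = 0 := by
    by_contra hne
    rw [h4X, h4Y] at h44
    have h1 : D.c 4 X * D.c 4 X = 1 := by
      have hb : D.c 4 X ≤ 1 ∧ -1 ≤ D.c 4 X := by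
        constructor <;> nlinarith [mul_self_nonneg (D.c 4 X + δ)]
      rcases (show D.c 4 X = 1 ∨ D.c 4 X = -1 by omega) with h' | h' <;> rw [h'] <;> norm_num
    rw [h1] at h44
    have h2 : D.c 4 X + δ = 0 ∧ ∑ x ∈ (insert D.o T)ᶜ, D.c 4 x * D.c 4 x = 0 := by
      have := mul_self_nonneg (D.c 4 X + δ)
      exact ⟨mul_self_eq_zero.mp (by omega), by omega⟩
    have hdeg := D.deg 4
    rw [hsplit, hsumT, ho4, D.d_o, h4X, h4Y, h2.1, hdX',
      Finset.sum_eq_zero fun x hx => by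
        rw [mul_self_eq_zero.mp
          ((Finset.sum_eq_zero_iff_of_nonneg fun _ _ => mul_self_nonneg _).mp h2.2 x hx), zero_mul]]
      at hdeg
    rcases Int.eq_one_or_neg_one_of_mul_eq_one h1 with h' | h' <;> rw [h'] at hdeg <;> omega
  rw [h4X, h4Y, h4X0, zero_add, sign_mul_self hδ] at h44
  obtain ⟨Z, hZ, hσ, hz4⟩ := exists_sign_one (c := D.c 4) (s := (insert D.o T)ᶜ) (by linarith)
  set σ := D.c 4 Z with hσdef
  -- the first virtual character
  have h0X : D.c 0 X' = D.c 0 X ∧ D.c 0 Y = D.c 0 X := by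
    have h := D.gram03
    rw [hsum3] at h
    have h' := D.gram02
    rw [hsum2] at h'
    rcases hδ with e | e <;> rw [e] at h h' <;> omega
  have h00 := D.gram00
  rw [hsplit, hsumT, ho0, h0X.1, h0X.2] at h00
  have hn0 : 0 ≤ ∑ x ∈ (insert D.o T)ᶜ, D.c 0 x * D.c 0 x :=
    Finset.sum_nonneg fun _ _ => mul_self_nonneg _
  have h0X0 : D.c 0 X = 0 := by
    by_contra hne
    nlinarith [Int.add_one_le_iff.mpr (mul_self_pos.mpr hne)]
  rw [h0X0] at h00
  have h0Z : D.c 0 Z = 0 := by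
    have h := D.gram04
    rw [hsplit, hsumT, ho0, ho4, h0X0, h0X.1, h0X.2, h0X0,
      Finset.sum_eq_single_of_mem Z hZ (fun x hx hxZ => by rw [hz4 x hx hxZ, mul_zero]),
      ← hσdef] at h
    rcases hσ with e | e <;> rw [e] at h <;> omega
  obtain ⟨A₀, hA₀, B₀, hB₀, hAB₀, hpA₀, hqB₀, hz0₀⟩ :=
    exists_sign_two (c := D.c 0) (s := (insert D.o T)ᶜ) (by linarith)
  -- the second virtual character
  have h1X : D.c 1 X' = D.c 1 X ∧ D.c 1 Y = D.c 1 X := by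
    have h := D.gram13
    rw [hsum3] at h
    have h' := D.gram12
    rw [hsum2] at h'
    rcases hδ with e | e <;> rw [e] at h h' <;> omega
  have h11 := D.gram11
  rw [hsplit, hsumT, ho1, h1X.1, h1X.2] at h11
  have hn1 : 0 ≤ ∑ x ∈ (insert D.o T)ᶜ, D.c 1 x * D.c 1 x :=
    Finset.sum_nonneg fun _ _ => mul_self_nonneg _
  have h1X0 : D.c 1 X = 0 := by
    by_contra hne
    have h1 : D.c 1 X * D.c 1 X = 1 := by
      have hb : D.c 1 X ≤ 1 ∧ -1 ≤ D.c 1 X := by constructor <;> nlinarith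
      rcases (show D.c 1 X = 1 ∨ D.c 1 X = -1 by omega) with h' | h' <;> rw [h'] <;> norm_num
    rw [h1] at h11
    have h2 : ∑ x ∈ (insert D.o T)ᶜ, D.c 1 x * D.c 1 x = 0 := by omega
    have hdeg := D.deg 1
    rw [hsplit, hsumT, ho1, h1X.1, h1X.2, hdX', hdY,
      Finset.sum_eq_zero fun x hx => by
        rw [mul_self_eq_zero.mp
          ((Finset.sum_eq_zero_iff_of_nonneg fun _ _ => mul_self_nonneg _).mp h2 x hx), zero_mul]]
      at hdeg
    rcases Int.eq_one_or_neg_one_of_mul_eq_one h1 with h' | h' <;> rw [h'] at hdeg <;> omega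
  rw [h1X0] at h11
  have h1Z : D.c 1 Z = -σ := by
    have h := D.gram14
    rw [hsplit, hsumT, ho1, h1X.1, h1X.2, h1X0,
      Finset.sum_eq_single_of_mem Z hZ (fun x hx hxZ => by rw [hz4 x hx hxZ, mul_zero]),
      ← hσdef] at h
    rcases hσ with e | e <;> rw [e] at h ⊢ <;> omega
  have h11' : ∑ x ∈ ((insert D.o T)ᶜ).erase Z, D.c 1 x * D.c 1 x = 2 := by
    rw [← Finset.add_sum_erase _ _ hZ, h1Z] at h11
    rcases hσ with e | e <;> rw [e] at h11 <;> omega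
  -- choose the name of the common constituent
  obtain ⟨A, B, hA, hB, hAB, hp, hq, hz0, h1A, h1B⟩ : ∃ A B : ι, A ∈ (insert D.o T)ᶜ ∧
      B ∈ (insert D.o T)ᶜ ∧ A ≠ B ∧ (D.c 0 A = 1 ∨ D.c 0 A = -1) ∧
      (D.c 0 B = 1 ∨ D.c 0 B = -1) ∧
      (∀ x ∈ (insert D.o T)ᶜ, x ≠ A → x ≠ B → D.c 0 x = 0) ∧
      D.c 1 A = D.c 0 A ∧ D.c 1 B = 0 := by
    have hneZ : ∀ x, D.c 0 x ≠ 0 → x ∈ (insert D.o T)ᶜ → x ∈ ((insert D.o T)ᶜ).erase Z :=
      fun x hx hm => Finset.mem_erase.mpr ⟨fun h => hx (h ▸ h0Z), hm⟩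
    have hb : ∀ x ∈ ((insert D.o T)ᶜ).erase Z,
        D.c 1 x = 0 ∨ D.c 1 x = 1 ∨ D.c 1 x = -1 := by
      intro x hx
      have h : D.c 1 x * D.c 1 x ≤ 2 := h11' ▸ Finset.single_le_sum
        (f := fun x => D.c 1 x * D.c 1 x) (fun _ _ => mul_self_nonneg _) hx
      have h1 : D.c 1 x ≤ 1 := by nlinarith
      have h2 : -1 ≤ D.c 1 x := by nlinarith
      omega
    have h := D.gram01
    rw [hsplit, hsumT, ho1, h1X.1, h1X.2, h1X0,
      sum_eq_of_support_aux (fun x => D.c 0 x * D.c 1 x) hA₀ hB₀ hAB₀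
        (fun x hx h1 h2 => by rw [hz0₀ x hx h1 h2, zero_mul])] at h
    have hA1 := hb A₀ (hneZ A₀ (by omega) hA₀)
    have hB1 := hb B₀ (hneZ B₀ (by omega) hB₀)
    rcases hA1 with hA1 | hA1
    · refine ⟨B₀, A₀, hB₀, hA₀, hAB₀.symm, hqB₀, hpA₀, fun x hx h1 h2 => hz0₀ x hx h2 h1, ?_, hA1⟩
      rw [hA1] at h
      rcases hqB₀ with e | e <;> rw [e] at h ⊢ <;> omega
    · refine ⟨A₀, B₀, hA₀, hB₀, hAB₀, hpA₀, hqB₀, hz0₀, ?_, ?_⟩ <;>
      · rcases hpA₀ with e | e <;> rcases hqB₀ with e' | e' <;> rcases hA1 with e1 | e1 <;>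
          rcases hB1 with e2 | e2 | e2 <;> rw [e, e', e1, e2] at h <;>
          simp only [e, e', e1, e2] <;> omega
  have hAZ : A ≠ Z := fun h => by rw [h, h0Z] at hp; omega
  have hBZ : B ≠ Z := fun h => by rw [h, h0Z] at hq; omega
  have h11'' : ∑ x ∈ (((insert D.o T)ᶜ).erase Z).erase A, D.c 1 x * D.c 1 x = 1 := by
    rw [← Finset.add_sum_erase _ _ (Finset.mem_erase.mpr ⟨hAZ, hA⟩), h1A, sign_mul_self hp] at h11'
    omega
  obtain ⟨W, hW, hr, hz1⟩ := exists_sign_one h11''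
  obtain ⟨hWA, hWZ, hWm⟩ : W ≠ A ∧ W ≠ Z ∧ W ∈ (insert D.o T)ᶜ := by
    simp only [Finset.mem_erase] at hW
    exact ⟨hW.1, hW.2.1, hW.2.2⟩
  have hWB : W ≠ B := fun h => by rw [h, h1B] at hr; omega
  have hWo : W ≠ D.o := fun h => by
    simp [h] at hWm
  -- supports
  have hTm : ∀ {x}, x ∈ T → (x = X ∨ x = X' ∨ x = Y) := fun {x} hx => by simpa [hT] using hx
  have hzero0 : ∀ x, x ∉ ({D.o, A, B} : Finset ι) → D.c 0 x = 0 := by
    intro x hx
    simp only [Finset.mem_insert, Finset.mem_singleton, not_or] at hx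
    by_cases hm : x ∈ (insert D.o T)ᶜ
    · exact hz0 x hm hx.2.1 hx.2.2
    · rw [Finset.mem_compl, not_not, Finset.mem_insert] at hm
      rcases hTm (hm.resolve_left hx.1) with rfl | rfl | rfl
      · exact h0X0
      · rw [h0X.1, h0X0]
      · rw [h0X.2, h0X0]
  have hzero1 : ∀ x, x ∉ ({A, Z, W} : Finset ι) → D.c 1 x = 0 := by
    intro x hx
    simp only [Finset.mem_insert, Finset.mem_singleton, not_or] at hx
    by_cases hm : x ∈ (insert D.o T)ᶜ
    · exact hz1 x (Finset.mem_erase.mpr ⟨hx.1, Finset.mem_erase.mpr ⟨hx.2.1, hm⟩⟩) hx.2.2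
    · rw [Finset.mem_compl, not_not, Finset.mem_insert] at hm
      rcases hm with rfl | hm
      · exact ho1
      rcases hTm hm with rfl | rfl | rfl
      · exact h1X0
      · rw [h1X.1, h1X0]
      · rw [h1X.2, h1X0]
  have hAo : A ≠ D.o := fun h => by simp [h] at hA
  have hBo : B ≠ D.o := fun h => by simp [h] at hB
  -- degrees and rows
  set p := D.c 0 A with hpdef
  set q := D.c 0 B with hqdef
  set r := D.c 1 W with hrdef
  have hdeg0 := D.deg 0
  rw [sum_eq_of_support {D.o, A, B} (fun x hx => by rw [hzero0 x hx, zero_mul]),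
    Finset.sum_insert (by simp [hAo.symm, hBo.symm]), Finset.sum_pair hAB, ho0, D.d_o,
    ← hpdef, ← hqdef] at hdeg0
  have hdeg1 := D.deg 1
  rw [sum_eq_of_support {A, Z, W} (fun x hx => by rw [hzero1 x hx, zero_mul]),
    Finset.sum_insert (by simp [hAZ, hWA.symm]), Finset.sum_pair hWZ.symm, h1A, h1Z,
    ← hrdef] at hdeg1
  obtain ⟨h2A, h3A⟩ := hrest2 A hA
  obtain ⟨h2B, h3B⟩ := hrest2 B hB
  obtain ⟨h2Z, h3Z⟩ := hrest2 Z hZ
  obtain ⟨h2W, h3W⟩ := hrest2 W hWm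
  have h4A : D.c 4 A = 0 := hz4 A hA hAZ
  have h4B : D.c 4 B = 0 := hz4 B hB hBZ
  have h4W : D.c 4 W = 0 := hz4 W hWm hWZ
  have h0W : D.c 0 W = 0 := hz0 W hWm hWA hWB
  have hrow0 := D.row 0 (Or.inl rfl)
  rw [sum_eq_of_support {D.o, A, B} (fun x hx => by rw [hzero0 x hx, Int.cast_zero, zero_mul, zero_div]),
    Finset.sum_insert (by simp [hAo.symm, hBo.symm]), Finset.sum_pair hAB, ho0, ho1, ho2, ho3, ho4,
    D.d_o, h1A, h2A, h3A, h4A, h1B, h2B, h3B, h4B, ← hqdef] at hrow0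
  have hrow1 := D.row 1 (Or.inr rfl)
  rw [sum_eq_of_support {A, Z, W} (fun x hx => by rw [hzero1 x hx, Int.cast_zero, zero_mul, zero_div]),
    Finset.sum_insert (by simp [hAZ, hWA.symm]), Finset.sum_pair hWZ.symm, h1A, h2A, h3A, h4A,
    h0Z, h1Z, h2Z, h3Z, ← hσdef, h0W, h2W, h3W, h4W, ← hrdef] at hrow1
  -- signed degrees
  have hpp := sign_mul_self hp
  have hqq := sign_mul_self hq
  have hrr := sign_mul_self hr
  have hσσ := sign_mul_self hσ
  have hppQ : (p : ℚ) * p = 1 := by exact_mod_cast hpp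
  have hqqQ : (q : ℚ) * q = 1 := by exact_mod_cast hqq
  have hrrQ : (r : ℚ) * r = 1 := by exact_mod_cast hrr
  have hσσQ : (σ : ℚ) * σ = 1 := by exact_mod_cast hσσ
  have hA0 : (D.d A : ℚ) ≠ 0 := Nat.cast_ne_zero.mpr (D.d_pos A).ne'
  have hB0 : (D.d B : ℚ) ≠ 0 := Nat.cast_ne_zero.mpr (D.d_pos B).ne'
  have hZ0 : (D.d Z : ℚ) ≠ 0 := Nat.cast_ne_zero.mpr (D.d_pos Z).ne'
  have hW0 : (D.d W : ℚ) ≠ 0 := Nat.cast_ne_zero.mpr (D.d_pos W).ne'
  have hinv : ∀ (e : ℚ) (n : ℚ), e * e = 1 → n ≠ 0 → e / n = 1 / (e * n) := fun e n he hn => by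
    have : e ≠ 0 := fun h => by simp [h] at he
    rw [div_eq_div_iff hn (mul_ne_zero this hn)]
    linear_combination n * he
  set α : ℤ := p * D.d A with hα
  set η : ℤ := -(σ * D.d Z) with hη
  have hαne : α ≠ 0 := mul_ne_zero (by omega) (by have := D.d_pos A; omega)
  have hηne : η ≠ 0 := neg_ne_zero.mpr (mul_ne_zero (by omega) (by have := D.d_pos Z; omega))
  have hqB : q * D.d B = -(1 + α) := by rw [hα]; push_cast at hdeg0; linarith
  have hrW : r * D.d W = -(η + α) := by rw [hα, hη]; linarith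
  have hPne : 1 + α ≠ 0 := fun h => by
    have : q * D.d B ≠ 0 := mul_ne_zero (by omega) (by have := D.d_pos B; omega)
    omega
  have hSne : η + α ≠ 0 := fun h => by
    have : r * D.d W ≠ 0 := mul_ne_zero (by omega) (by have := D.d_pos W; omega)
    omega
  have hs1 : 1 + α + η ≠ 0 := by
    intro h
    have h1 : r * D.d W = 1 := by omega
    refine hWo (D.linear W ?_)
    rcases hr with e | e <;> rw [e] at h1 <;> omega
  have hαQ : (α : ℚ) = p * D.d A := by simp [hα]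
  have hηQ : (η : ℚ) = -(σ * D.d Z) := by simp [hη]
  have hqBQ : (q : ℚ) * D.d B = -(1 + α) := by exact_mod_cast hqB
  have hrWQ : (r : ℚ) * D.d W = -(η + α) := by exact_mod_cast hrW
  have hS0 : (D.g : ℚ) * (1 + 16 / (α : ℚ) - 9 / (1 + α)) = 9216 := by
    refine Eq.trans (congrArg _ ?_) hrow0
    have e1 := hinv p (D.d A) hppQ hA0
    have e2 := hinv q (D.d B) hqqQ hB0
    rw [hqBQ, one_div_neg_eq_neg_one_div] at e2
    rw [← hαQ] at e1
    push_cast
    linear_combination (-16 : ℚ) * e1 - 9 * e2 - (16 * (p : ℚ) / D.d A) * hppQ -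
      (9 * (q : ℚ) / D.d B) * hqqQ
  have hS1 : (D.g : ℚ) * (16 / (α : ℚ) + 9 / (η : ℚ) - 1 / (η + α)) = 9216 := by
    refine Eq.trans (congrArg _ ?_) hrow1
    have e1 := hinv p (D.d A) hppQ hA0
    have e2 := hinv σ (D.d Z) hσσQ hZ0
    have e3 := hinv r (D.d W) hrrQ hW0
    rw [← hαQ] at e1
    rw [show (σ : ℚ) * D.d Z = -(η : ℚ) by rw [hηQ, neg_neg], one_div_neg_eq_neg_one_div] at e2
    rw [hrWQ, one_div_neg_eq_neg_one_div] at e3
    push_cast
    linear_combination (-16 : ℚ) * e1 + 9 * e2 - e3 - (16 * (p : ℚ) / D.d A) * hppQ +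
      (9 * (σ : ℚ) / D.d Z) * hσσQ - ((r : ℚ) / D.d W) * hrrQ
  have hgne : (D.g : ℚ) ≠ 0 := fun h => by rw [h, zero_mul] at hS0; norm_num at hS0
  have hα' : (α : ℚ) ≠ 0 := Int.cast_ne_zero.mpr hαne
  have hη' : (η : ℚ) ≠ 0 := Int.cast_ne_zero.mpr hηne
  have hP' : (1 : ℚ) + α ≠ 0 := by exact_mod_cast hPne
  have hS' : (η : ℚ) + α ≠ 0 := by exact_mod_cast hSne
  have hkey := mul_left_cancel₀ hgne (hS0.trans hS1.symm)
  refine order_cases (A := α) (Q := η) hs1 D.g16 D.g32 ?_ ?_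
  · have h : (D.g : ℚ) * ((α : ℚ) * (1 + α) + 16 * (1 + α) - 9 * α) = 9216 * α * (1 + α) := by
      field_simp at hS0
      linear_combination hS0
    exact_mod_cast h
  · have h : ((η : ℚ) + α) * ((1 + α) * η - 9 * η - 9 * (1 + α)) + (1 + α) * η = 0 := by
      field_simp at hkey
      refine (mul_eq_zero.mp (?_ : (α : ℚ) * (((η : ℚ) + α) * ((1 + α) * η - 9 * η - 9 * (1 + α)) +
        (1 + α) * η) = 0)).resolve_left hα'
      linear_combination hkey
    exact_mod_cast h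

end CfsgLib.GL23
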