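import Cfsg.Agent.Lib.GL23.Model
import Cfsg.Agent.Lib.Char.Induced
import Cfsg.Agent.Lib.Char.Linear
import Mathlib.Data.Real.Sqrt

/-!
# Five virtual characters of GL(2,3) vanishing off the special elements
-/

set_option autoImplicit false
set_option maxRecDepth 8000

open scoped ComplexConjugate

namespace CfsgLib.GL23

open Complex

/-- `√-2`. -/
noncomputable def w : ℂ := (Real.sqrt 2 : ℂ) * I

theorem w_mul_self : w * w = -2 := by
  rw [w, mul_mul_mul_comm, ← ofReal_mul, Real.mul_self_sqrt zero_le_two, I_mul_I]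
  simp

theorem conj_w : conj w = -w := by
  simp [w, map_mul, conj_ofReal, conj_I]

/-- The five virtual characters. -/
noncomputable def alpha (i : Fin 5) (g : M) : ℂ := (re i g : ℂ) + (im i g : ℂ) * w

theorem alpha_eq_zero (i : Fin 5) {g : M} (h : ¬ IsSpecial g) : alpha i g = 0 := by
  obtain ⟨h1, h2⟩ := tab_eq_zero i h
  simp [alpha, h1, h2]

theorem sum_alpha_mul_conj (i j : Fin 5) :
    ∑ g : M, alpha i g * conj (alpha j g) = ((48 * gramEntry i j : ℤ) : ℂ) := by
  obtain ⟨h1, h2⟩ := gram_sums i j
  have h : ∀ g : M, alpha i g * conj (alpha j g) =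
      ((re i g * re j g + 2 * (im i g * im j g) : ℤ) : ℂ) +
        ((im i g * re j g - re i g * im j g : ℤ) : ℂ) * w := by
    intro g
    simp only [alpha, map_add, map_mul, map_intCast, conj_w]
    push_cast
    linear_combination (-((im i g : ℂ) * (im j g : ℂ))) * w_mul_self
  rw [Finset.sum_congr rfl fun g _ => h g, Finset.sum_add_distrib, ← Finset.sum_mul, ← Int.cast_sum,
    ← Int.cast_sum, h1, h2, Int.cast_zero, zero_mul, add_zero]

theorem sum_alpha (i : Fin 5) :
    ∑ g : M, alpha i g = (((if i = 0 ∨ i = 4 then 48 else 0) : ℤ) : ℂ) := by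
  obtain ⟨h1, h2⟩ := principal_sums i
  simp only [alpha, Finset.sum_add_distrib, ← Finset.sum_mul, ← Int.cast_sum, h1, h2, Int.cast_zero,
    zero_mul, add_zero]

theorem sum_alpha_pairs (i : Fin 5) :
    ∑ g : M, alpha i g * (invPairsC (code g) : ℂ) =
      (((if i = 0 ∨ i = 1 then 192 else if i = 4 then 96 else 0) : ℤ) : ℂ) := by
  obtain ⟨h1, h2⟩ := pair_sums i
  have h : ∀ g : M, alpha i g * (invPairsC (code g) : ℂ) =
      ((re i g * invPairsC (code g) : ℤ) : ℂ) + ((im i g * invPairsC (code g) : ℤ) : ℂ) * w := by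
    intro g
    simp only [alpha]
    push_cast
    ring
  rw [Finset.sum_congr rfl fun g _ => h g, Finset.sum_add_distrib, ← Finset.sum_mul, ← Int.cast_sum,
    ← Int.cast_sum, h1, h2, Int.cast_zero, zero_mul, add_zero]

theorem alpha_indicator (g : M) :
    3 * alpha 0 g + alpha 1 g + 4 * alpha 2 g + 2 * alpha 3 g - 2 * alpha 4 g =
      if g = -1 then 48 else 0 := by
  obtain ⟨h1, h2⟩ := indicator g
  have h1' := congrArg (fun z : ℤ => (z : ℂ)) h1
  have h2' := congrArg (fun z : ℤ => (z : ℂ)) h2
  push_cast at h1' h2'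
  simp only [alpha]
  linear_combination h1' + w * h2'

/-- The permutation character on the cosets of `H`. -/
noncomputable def permChar (H : Subgroup M) : M → ℂ := Cfsg.indFun H (fun _ => (1 : ℂ))

theorem isGeneralized_permChar (H : Subgroup M) :
    Cfsg.IsGeneralizedCharacter M (permChar H) :=
  Char.IsCharacter.isGeneralizedCharacter
    (Char.IsCharacter.indFun H (Char.IsIrrCharacter.isCharacter Char.isIrrCharacter_principal))

theorem permChar_apply (H : Subgroup M) (p : ℕ → Bool) (hp : ∀ g : M, g ∈ H ↔ p (code g) = true)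
    (g : M) : permChar H g = (cntC p (code g) : ℂ) / (codeList.countP p : ℂ) := by
  classical
  have hcard : Nat.card H = codeList.countP p := by
    rw [Nat.card_eq_fintype_card, Fintype.card_subtype,
      Finset.filter_congr (q := fun g : M => p (code g) = true) (fun g _ => hp g),
      card_filter_eq_codes]
  rw [permChar, Char.indFun_apply, hcard, inv_mul_eq_div, ← cnt_eq, ← Finset.sum_boole]
  congr 1
  refine Finset.sum_congr rfl fun x _ => ?_
  by_cases h : x⁻¹ * g * x ∈ H
  · rw [Char.extendByZero_apply_mem H _ h, if_pos ((hp _).mp h)]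
  · rw [Char.extendByZero_of_notMem H _ h, if_neg fun h' => h ((hp _).mpr h')]

/-- A primitive eighth root of unity. -/
noncomputable def zeta : ℂ := (Real.sqrt 2 / 2 : ℝ) * (1 + I)

theorem zeta_sq : zeta * zeta = I := by
  rw [zeta, mul_mul_mul_comm, ← ofReal_mul]
  have h : Real.sqrt 2 / 2 * (Real.sqrt 2 / 2) = 1 / 2 := by
    rw [div_mul_div_comm, Real.mul_self_sqrt zero_le_two]
    norm_num
  rw [h]
  push_cast
  linear_combination (1 / 2 : ℂ) * I_mul_I

theorem zeta_add : zeta + zeta ^ 3 = w := by
  have h2 := zeta_sq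
  rw [show zeta + zeta ^ 3 = zeta + zeta * (zeta * zeta) by ring, h2, zeta, w]
  push_cast
  linear_combination ((Real.sqrt 2 : ℂ) / 2) * I_mul_I

theorem zeta_four : zeta ^ 4 = -1 := by
  rw [show zeta ^ 4 = (zeta * zeta) * (zeta * zeta) by ring, zeta_sq, I_mul_I]

/-- `ζ` as a unit. -/
noncomputable def zetaU : ℂˣ :=
  (IsUnit.of_mul_eq_one (-zeta ^ 3) (by linear_combination -zeta_four)).unit

theorem zetaU_coe : (zetaU : ℂ) = zeta := rfl

theorem zetaU_pow_eight : zetaU ^ 8 = 1 := by
  refine Units.ext ?_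
  rw [Units.val_pow_eq_pow_val, zetaU_coe, Units.val_one]
  linear_combination (zeta ^ 4 - 1) * zeta_four

/-- The exponent of a code in `⟨y⟩`. -/
def idxC (c : ℕ) : ℕ := (List.range 8).findIdx fun k => decide (powC 13 k = c)

theorem idxC_mul {a b : M} (ha : a ∈ cyc) (hb : b ∈ cyc) :
    idxC (code (a * b)) % 8 = (idxC (code a) + idxC (code b)) % 8 := by
  have key : ∀ a ∈ codeList, cycC a = true → ∀ b ∈ codeList, cycC b = true →
      idxC (mulC a b) % 8 = (idxC a + idxC b) % 8 := by decide +kernel
  rw [code_mul]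
  exact key _ (code_mem a) (mem_cyc.mp ha) _ (code_mem b) (mem_cyc.mp hb)

/-- The faithful linear character of `⟨y⟩`. -/
noncomputable def lamHom : cyc →* ℂˣ :=
  MonoidHom.mk' (fun a => zetaU ^ idxC (code (a : M))) fun a b => by
    show zetaU ^ idxC (code ((a : M) * b)) = _
    rw [← pow_add, pow_eq_pow_mod (idxC (code ((a : M) * b))) zetaU_pow_eight, idxC_mul a.2 b.2,
      ← pow_eq_pow_mod _ zetaU_pow_eight]

/-- The character induced from the faithful linear character of `⟨y⟩`. -/
noncomputable def indLam : M → ℂ := Cfsg.indFun cyc (fun a => (lamHom a : ℂ))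

theorem isGeneralized_indLam : Cfsg.IsGeneralizedCharacter M indLam :=
  Char.IsCharacter.isGeneralizedCharacter
    (Char.IsCharacter.indFun cyc (Char.IsIrrCharacter.isCharacter (Char.isIrrCharacter_linear lamHom)))

theorem isGeneralized_conj_indLam :
    Cfsg.IsGeneralizedCharacter M (fun g => conj (indLam g)) := by
  have h : (fun g => conj (indLam g)) = Cfsg.indFun cyc (fun a =>
      (((Units.map (starRingEnd ℂ : ℂ →* ℂ)).comp lamHom) a : ℂ)) := by
    funext g
    rw [indLam, Char.indFun_apply, Char.indFun_apply, map_mul, map_inv₀, map_natCast, map_sum]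
    congr 1
    refine Finset.sum_congr rfl fun x _ => ?_
    by_cases h : x⁻¹ * g * x ∈ cyc
    · rw [Char.extendByZero_apply_mem cyc _ h, Char.extendByZero_apply_mem cyc _ h]
      rfl
    · rw [Char.extendByZero_of_notMem cyc _ h, Char.extendByZero_of_notMem cyc _ h, map_zero]
  rw [h]
  exact Char.IsCharacter.isGeneralizedCharacter (Char.IsCharacter.indFun cyc
    (Char.IsIrrCharacter.isCharacter (Char.isIrrCharacter_linear _)))

theorem indLam_apply (g : M) : indLam g =
    ((((ncycC 0 (code g) : ℤ) - ncycC 4 (code g) : ℤ) : ℂ) +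
      (((ncycC 1 (code g) : ℤ) - ncycC 5 (code g) : ℤ) : ℂ) * w) / 8 := by
  classical
  obtain ⟨-, -, -, -, -, -, h26, h37, -⟩ := perm_tables g
  have h26' := congrArg (fun z : ℤ => (z : ℂ)) h26
  have h37' := congrArg (fun z : ℤ => (z : ℂ)) h37
  push_cast at h26' h37' ⊢
  rw [indLam, Char.indFun_apply, card_cyc]
  have hterm : ∀ x : M, Cfsg.extendByZero cyc (fun a => (lamHom a : ℂ)) (x⁻¹ * g * x) =
      ∑ k : Fin 8, if x⁻¹ * g * x = y ^ (k : ℕ) then zeta ^ (k : ℕ) else 0 := by
    intro x
    set z := x⁻¹ * g * x with hz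
    by_cases h : z ∈ cyc
    · rw [Char.extendByZero_apply_mem cyc _ h]
      have key : ∀ a ∈ codeList, cycC a = true →
          idxC a < 8 ∧ powC 13 (idxC a) = a ∧ ∀ k < 8, powC 13 k = a → k = idxC a := by
        decide +kernel
      obtain ⟨h1, h2, h3⟩ := key _ (code_mem z) (mem_cyc.mp h)
      have hy : z = y ^ idxC (code z) := code_injective (by rw [code_pow, code_y, h2])
      rw [Finset.sum_eq_single ⟨idxC (code z), h1⟩]
      · rw [if_pos hy]
        show ((zetaU ^ idxC (code z) : ℂˣ) : ℂ) = _
        rw [Units.val_pow_eq_pow_val, zetaU_coe]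
      · intro k _ hk
        rw [if_neg]
        intro hzk
        refine hk (Fin.ext (h3 k k.2 ?_))
        rw [← code_y, ← code_pow, ← hzk]
      · exact fun h' => absurd (Finset.mem_univ _) h'
    · rw [Char.extendByZero_of_notMem cyc _ h, Finset.sum_eq_zero]
      intro k _
      rw [if_neg]
      exact fun hzk => h (mem_cyc_iff_pow.mpr ⟨k, hzk⟩)
  have hcount : ∀ k : Fin 8, (∑ x : M, if x⁻¹ * g * x = y ^ (k : ℕ) then zeta ^ (k : ℕ) else 0) =
      (ncycC k (code g) : ℂ) * zeta ^ (k : ℕ) := by
    intro k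
    rw [← ncyc_eq, ← Finset.sum_filter, Finset.sum_const, nsmul_eq_mul]
  rw [Finset.sum_congr rfl fun x _ => hterm x, Finset.sum_comm, Finset.sum_congr rfl fun k _ => hcount k]
  simp only [Fin.sum_univ_eight, Fin.val_zero, Fin.val_one, Fin.val_two, pow_zero, pow_one, mul_one]
  have e3 : ((3 : Fin 8) : ℕ) = 3 := rfl
  have e4 : ((4 : Fin 8) : ℕ) = 4 := rfl
  have e5 : ((5 : Fin 8) : ℕ) = 5 := rfl
  have e6 : ((6 : Fin 8) : ℕ) = 6 := rfl
  have e7 : ((7 : Fin 8) : ℕ) = 7 := rfl
  rw [e3, e4, e5, e6, e7, ← zeta_add]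
  push_cast
  linear_combination ((ncycC 4 (code g) : ℂ) / 8) * zeta_four +
    ((ncycC 5 (code g) : ℂ) * zeta / 8) * zeta_four +
    ((ncycC 6 (code g) : ℂ) * zeta ^ 2 / 8) * zeta_four +
    ((ncycC 7 (code g) : ℂ) * zeta ^ 3 / 8) * zeta_four +
    (zeta ^ 2 / 8) * h26' + (zeta ^ 3 / 8) * h37'

theorem isGeneralized_alpha (i : Fin 5) : Cfsg.IsGeneralizedCharacter M (alpha i) := by
  have gadd : ∀ {f g : M → ℂ}, Cfsg.IsGeneralizedCharacter M f → Cfsg.IsGeneralizedCharacter M g →
      Cfsg.IsGeneralizedCharacter M (f + g) := Char.IsGeneralizedCharacter.add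
  have gsub : ∀ {f g : M → ℂ}, Cfsg.IsGeneralizedCharacter M f → Cfsg.IsGeneralizedCharacter M g →
      Cfsg.IsGeneralizedCharacter M (f - g) := Char.IsGeneralizedCharacter.sub
  have cS : (codeList.countP slC) = 24 := by decide +kernel
  have cB : (codeList.countP borelC) = 12 := by decide +kernel
  have cV : (codeList.countP vecC) = 6 := by decide +kernel
  have cY : (codeList.countP sylC) = 16 := by decide +kernel
  have cC : (codeList.countP cycC) = 8 := by decide +kernel
  have one : Cfsg.IsGeneralizedCharacter M (1 : M → ℂ) := Char.IsGeneralizedCharacter.one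
  have gp := isGeneralized_permChar
  have pS : ∀ g, permChar special g = (cntC slC (code g) : ℂ) / 24 := fun g => by
    rw [permChar_apply special slC (fun g => mem_special), cS]; norm_num
  have pB : ∀ g, permChar borel g = (cntC borelC (code g) : ℂ) / 12 := fun g => by
    rw [permChar_apply borel borelC (fun g => mem_borel), cB]; norm_num
  have pV : ∀ g, permChar vecStab g = (cntC vecC (code g) : ℂ) / 6 := fun g => by
    rw [permChar_apply vecStab vecC (fun g => mem_vecStab), cV]; norm_num
  have pY : ∀ g, permChar sylowTwo g = (cntC sylC (code g) : ℂ) / 16 := fun g => by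
    rw [permChar_apply sylowTwo sylC (fun g => mem_sylowTwo), cY]; norm_num
  have pC : ∀ g, permChar cyc g = (cntC cycC (code g) : ℂ) / 8 := fun g => by
    rw [permChar_apply cyc cycC (fun g => mem_cyc), cC]; norm_num
  fin_cases i
  · have h : alpha 0 = (1 : M → ℂ) + permChar cyc - permChar sylowTwo - permChar vecStab +
        permChar borel := funext fun g => by
      obtain ⟨t0, -, -, -, -, -, -, -, i0, -⟩ := perm_tables g
      have t0' := congrArg (fun z : ℤ => (z : ℂ)) t0
      push_cast at t0'
      simp only [alpha, i0, Int.cast_zero, zero_mul, add_zero, Pi.add_apply, Pi.sub_apply,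
        Pi.one_apply, pC, pY, pV, pB]
      linear_combination (-1 / 48 : ℂ) * t0'
    exact h ▸ gadd (gsub (gsub (gadd one (gp _)) (gp _)) (gp _)) (gp _)
  · have h : alpha 1 = permChar special - ((1 : M → ℂ) + 1) + (permChar borel + permChar borel) -
        permChar vecStab := funext fun g => by
      obtain ⟨-, t1, -, -, -, -, -, -, -, i1, -⟩ := perm_tables g
      have t1' := congrArg (fun z : ℤ => (z : ℂ)) t1
      push_cast at t1'
      simp only [alpha, i1, Int.cast_zero, zero_mul, add_zero, Pi.add_apply, Pi.sub_apply,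
        Pi.one_apply, pS, pV, pB]
      linear_combination (-1 / 48 : ℂ) * t1'
    exact h ▸ gsub (gadd (gsub (gp _) (gadd one one)) (gadd (gp _) (gp _))) (gp _)
  · have h : alpha 2 = permChar sylowTwo - (1 : M → ℂ) - indLam + permChar vecStab -
        permChar borel := funext fun g => by
      obtain ⟨-, -, t2, t3, -⟩ := perm_tables g
      have t2' := congrArg (fun z : ℤ => (z : ℂ)) t2
      have t3' := congrArg (fun z : ℤ => (z : ℂ)) t3
      push_cast at t2' t3'
      simp only [alpha, Pi.add_apply, Pi.sub_apply, Pi.one_apply, pY, pV, pB, indLam_apply]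
      push_cast
      linear_combination (-1 / 48 : ℂ) * t2' + (-w / 48) * t3'
    exact h ▸ gsub (gadd (gsub (gsub (gp _) one) isGeneralized_indLam) (gp _)) (gp _)
  · have h : alpha 3 = indLam - (fun g => conj (indLam g)) := funext fun g => by
      obtain ⟨-, -, -, -, t4, -, -, -, -, -, r3, -⟩ := perm_tables g
      have t4' := congrArg (fun z : ℤ => (z : ℂ)) t4
      push_cast at t4'
      simp only [alpha, r3, Int.cast_zero, zero_add, Pi.sub_apply, indLam_apply, map_div₀,
        map_add, map_mul, map_intCast, conj_w, map_ofNat]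
      push_cast
      linear_combination (-w / 48) * t4'
    exact h ▸ gsub isGeneralized_indLam isGeneralized_conj_indLam
  · have h : alpha 4 = (1 : M → ℂ) + permChar sylowTwo - permChar borel := funext fun g => by
      obtain ⟨-, -, -, -, -, t5, -, -, -, -, -, i4⟩ := perm_tables g
      have t5' := congrArg (fun z : ℤ => (z : ℂ)) t5
      push_cast at t5'
      simp only [alpha, i4, Int.cast_zero, zero_mul, add_zero, Pi.add_apply, Pi.sub_apply,
        Pi.one_apply, pY, pB]
      linear_combination (-1 / 48 : ℂ) * t5'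
    exact h ▸ gsub (gadd one (gp _)) (gp _)

end CfsgLib.GL23
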