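import Mathlib.LinearAlgebra.Matrix.GeneralLinearGroup.Defs
import Mathlib.Data.ZMod.Basic
import Mathlib.Algebra.GroupWithZero.Units.Fintype
import Mathlib.Data.Fintype.Pi
import Mathlib.LinearAlgebra.Matrix.Notation

/-!
# An explicit enumeration of GL(2,3)
-/

set_option autoImplicit false
set_option maxRecDepth 4000

namespace CfsgLib.GL23

open Matrix

/-- The group GL(2,3). -/
abbrev M : Type := GL (Fin 2) (ZMod 3)

/-- The 48 elements. -/
def elemList : List M :=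
  [
    ⟨!![0, 1; 1, 0], !![0, 1; 1, 0], by decide, by decide⟩,
    ⟨!![0, 1; 1, 1], !![2, 1; 1, 0], by decide, by decide⟩,
    ⟨!![0, 1; 1, 2], !![1, 1; 1, 0], by decide, by decide⟩,
    ⟨!![0, 1; 2, 0], !![0, 2; 1, 0], by decide, by decide⟩,
    ⟨!![0, 1; 2, 1], !![1, 2; 1, 0], by decide, by decide⟩,
    ⟨!![0, 1; 2, 2], !![2, 2; 1, 0], by decide, by decide⟩,
    ⟨!![0, 2; 1, 0], !![0, 1; 2, 0], by decide, by decide⟩,
    ⟨!![0, 2; 1, 1], !![1, 1; 2, 0], by decide, by decide⟩,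
    ⟨!![0, 2; 1, 2], !![2, 1; 2, 0], by decide, by decide⟩,
    ⟨!![0, 2; 2, 0], !![0, 2; 2, 0], by decide, by decide⟩,
    ⟨!![0, 2; 2, 1], !![2, 2; 2, 0], by decide, by decide⟩,
    ⟨!![0, 2; 2, 2], !![1, 2; 2, 0], by decide, by decide⟩,
    ⟨!![1, 0; 0, 1], !![1, 0; 0, 1], by decide, by decide⟩,
    ⟨!![1, 0; 0, 2], !![1, 0; 0, 2], by decide, by decide⟩,
    ⟨!![1, 0; 1, 1], !![1, 0; 2, 1], by decide, by decide⟩,
    ⟨!![1, 0; 1, 2], !![1, 0; 1, 2], by decide, by decide⟩,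
    ⟨!![1, 0; 2, 1], !![1, 0; 1, 1], by decide, by decide⟩,
    ⟨!![1, 0; 2, 2], !![1, 0; 2, 2], by decide, by decide⟩,
    ⟨!![1, 1; 0, 1], !![1, 2; 0, 1], by decide, by decide⟩,
    ⟨!![1, 1; 0, 2], !![1, 1; 0, 2], by decide, by decide⟩,
    ⟨!![1, 1; 1, 0], !![0, 1; 1, 2], by decide, by decide⟩,
    ⟨!![1, 1; 1, 2], !![2, 2; 2, 1], by decide, by decide⟩,
    ⟨!![1, 1; 2, 0], !![0, 2; 1, 1], by decide, by decide⟩,
    ⟨!![1, 1; 2, 1], !![2, 1; 2, 2], by decide, by decide⟩,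
    ⟨!![1, 2; 0, 1], !![1, 1; 0, 1], by decide, by decide⟩,
    ⟨!![1, 2; 0, 2], !![1, 2; 0, 2], by decide, by decide⟩,
    ⟨!![1, 2; 1, 0], !![0, 1; 2, 1], by decide, by decide⟩,
    ⟨!![1, 2; 1, 1], !![2, 2; 1, 2], by decide, by decide⟩,
    ⟨!![1, 2; 2, 0], !![0, 2; 2, 2], by decide, by decide⟩,
    ⟨!![1, 2; 2, 2], !![2, 1; 1, 1], by decide, by decide⟩,
    ⟨!![2, 0; 0, 1], !![2, 0; 0, 1], by decide, by decide⟩,
    ⟨!![2, 0; 0, 2], !![2, 0; 0, 2], by decide, by decide⟩,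
    ⟨!![2, 0; 1, 1], !![2, 0; 1, 1], by decide, by decide⟩,
    ⟨!![2, 0; 1, 2], !![2, 0; 2, 2], by decide, by decide⟩,
    ⟨!![2, 0; 2, 1], !![2, 0; 2, 1], by decide, by decide⟩,
    ⟨!![2, 0; 2, 2], !![2, 0; 1, 2], by decide, by decide⟩,
    ⟨!![2, 1; 0, 1], !![2, 1; 0, 1], by decide, by decide⟩,
    ⟨!![2, 1; 0, 2], !![2, 2; 0, 2], by decide, by decide⟩,
    ⟨!![2, 1; 1, 0], !![0, 1; 1, 1], by decide, by decide⟩,
    ⟨!![2, 1; 1, 1], !![1, 2; 2, 2], by decide, by decide⟩,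
    ⟨!![2, 1; 2, 0], !![0, 2; 1, 2], by decide, by decide⟩,
    ⟨!![2, 1; 2, 2], !![1, 1; 2, 1], by decide, by decide⟩,
    ⟨!![2, 2; 0, 1], !![2, 2; 0, 1], by decide, by decide⟩,
    ⟨!![2, 2; 0, 2], !![2, 1; 0, 2], by decide, by decide⟩,
    ⟨!![2, 2; 1, 0], !![0, 1; 2, 2], by decide, by decide⟩,
    ⟨!![2, 2; 1, 2], !![1, 2; 1, 1], by decide, by decide⟩,
    ⟨!![2, 2; 2, 0], !![0, 2; 2, 1], by decide, by decide⟩,
    ⟨!![2, 2; 2, 1], !![1, 1; 1, 2], by decide, by decide⟩]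

/-- The code of an element. -/
def code (g : M) : ℕ :=
  ((g : Matrix (Fin 2) (Fin 2) (ZMod 3)) 0 0).val + 3 * ((g : Matrix (Fin 2) (Fin 2) (ZMod 3)) 0 1).val +
    9 * ((g : Matrix (Fin 2) (Fin 2) (ZMod 3)) 1 0).val +
    27 * ((g : Matrix (Fin 2) (Fin 2) (ZMod 3)) 1 1).val

/-- The 48 codes. -/
def codeList : List ℕ :=
  [12, 39, 66, 21, 48, 75, 15, 42, 69, 24, 51, 78, 28, 55, 37, 64, 46, 73, 31, 58, 13, 67, 22, 49, 34, 61, 16, 43, 25, 79, 29, 56, 38, 65, 47, 74, 32, 59, 14, 41, 23, 77, 35, 62, 17, 71, 26, 53]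

theorem elemList_map_code : elemList.map code = codeList := by decide +kernel

theorem elemList_nodup : elemList.Nodup :=
  List.Nodup.of_map code (elemList_map_code ▸ (by decide +kernel : codeList.Nodup))

theorem code_injective : Function.Injective code := by
  intro g h hgh
  have key : ∀ a b c d a' b' c' d' : ℕ, a < 3 → b < 3 → c < 3 → d < 3 → a' < 3 → b' < 3 → c' < 3 →
      d' < 3 → a + 3 * b + 9 * c + 27 * d = a' + 3 * b' + 9 * c' + 27 * d' →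
      a = a' ∧ b = b' ∧ c = c' ∧ d = d' := by omega
  obtain ⟨h1, h2, h3, h4⟩ := key _ _ _ _ _ _ _ _ (ZMod.val_lt _) (ZMod.val_lt _) (ZMod.val_lt _)
    (ZMod.val_lt _) (ZMod.val_lt _) (ZMod.val_lt _) (ZMod.val_lt _) (ZMod.val_lt _) hgh
  refine Units.ext (Matrix.ext fun i j => ZMod.val_injective 3 ?_)
  fin_cases i <;> fin_cases j <;> assumption

/-- The product on codes. -/
def mulC (x y : ℕ) : ℕ :=
  (x % 3 * (y % 3) + x / 3 % 3 * (y / 9 % 3)) % 3 +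
    3 * ((x % 3 * (y / 3 % 3) + x / 3 % 3 * (y / 27 % 3)) % 3) +
    9 * ((x / 9 % 3 * (y % 3) + x / 27 % 3 * (y / 9 % 3)) % 3) +
    27 * ((x / 9 % 3 * (y / 3 % 3) + x / 27 % 3 * (y / 27 % 3)) % 3)

/-- The inverse on codes. -/
def invC (x : ℕ) : ℕ :=
  let e := (x % 3 * (x / 27 % 3) + 2 * (x / 3 % 3 * (x / 9 % 3))) % 3
  e * (x / 27 % 3) % 3 + 3 * (2 * (e * (x / 3 % 3)) % 3) + 9 * (2 * (e * (x / 9 % 3)) % 3) +
    27 * (e * (x % 3) % 3)

theorem code_mul (g h : M) : code (g * h) = mulC (code g) (code h) := by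
  have dig : ∀ a b c d : ℕ, a < 3 → b < 3 → c < 3 → d < 3 →
      (a + 3 * b + 9 * c + 27 * d) % 3 = a ∧ (a + 3 * b + 9 * c + 27 * d) / 3 % 3 = b ∧
      (a + 3 * b + 9 * c + 27 * d) / 9 % 3 = c ∧ (a + 3 * b + 9 * c + 27 * d) / 27 % 3 = d := by omega
  obtain ⟨g1, g2, g3, g4⟩ := dig _ _ _ _ (ZMod.val_lt ((g : Matrix (Fin 2) (Fin 2) (ZMod 3)) 0 0))
    (ZMod.val_lt ((g : Matrix (Fin 2) (Fin 2) (ZMod 3)) 0 1))
    (ZMod.val_lt ((g : Matrix (Fin 2) (Fin 2) (ZMod 3)) 1 0))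
    (ZMod.val_lt ((g : Matrix (Fin 2) (Fin 2) (ZMod 3)) 1 1))
  obtain ⟨h1, h2, h3, h4⟩ := dig _ _ _ _ (ZMod.val_lt ((h : Matrix (Fin 2) (Fin 2) (ZMod 3)) 0 0))
    (ZMod.val_lt ((h : Matrix (Fin 2) (Fin 2) (ZMod 3)) 0 1))
    (ZMod.val_lt ((h : Matrix (Fin 2) (Fin 2) (ZMod 3)) 1 0))
    (ZMod.val_lt ((h : Matrix (Fin 2) (Fin 2) (ZMod 3)) 1 1))
  simp only [mulC, code, g1, g2, g3, g4, h1, h2, h3, h4]
  simp only [Units.val_mul, Matrix.mul_apply, Fin.sum_univ_two, ZMod.val_add, ZMod.val_mul,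
    Nat.add_mod_mod, Nat.mod_add_mod]

/-- The 48 elements as a finite set. -/
def efin : Finset M := ⟨(elemList : Multiset M), elemList_nodup⟩

theorem univ_eq : (Finset.univ : Finset M) = efin := by decide +kernel

theorem mem_efin (g : M) : g ∈ efin := univ_eq ▸ Finset.mem_univ g

theorem card_efin : efin.card = 48 := rfl

theorem code_mem (g : M) : code g ∈ codeList :=
  elemList_map_code ▸ List.mem_map_of_mem (mem_efin g)

/-- A statement about all elements from one about all codes. -/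
theorem forall_code {P : ℕ → Prop} (h : ∀ c ∈ codeList, P c) (g : M) : P (code g) :=
  h _ (code_mem g)

theorem code_inv (g : M) : code g⁻¹ = invC (code g) := by
  have h : ∀ a ∈ elemList, code a⁻¹ = invC (code a) := by decide +kernel
  exact h g (mem_efin g)

theorem sum_eq_codes {R : Type*} [AddCommMonoid R] (f : ℕ → R) :
    ∑ g : M, f (code g) = (codeList.map f).sum := by
  rw [univ_eq, ← elemList_map_code, List.map_map]
  rfl

theorem card_filter_eq_codes (p : ℕ → Bool) :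
    (Finset.univ.filter fun g : M => p (code g) = true).card = codeList.countP p := by
  rw [univ_eq, ← elemList_map_code, List.countP_map, List.countP_eq_length_filter]
  show ((elemList : Multiset M).filter fun g : M => p (code g) = true).card = _
  rw [Multiset.filter_coe, Multiset.coe_card]
  simp [Function.comp_def]

end CfsgLib.GL23
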