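import Cfsg.Agent.Lib.GL23.Model
import Cfsg.Agent.Lib.Transfer.Focal
import Mathlib.GroupTheory.Sylow
import Mathlib.GroupTheory.Solvable

/-!
# Local structure of a group with an involution centraliser GL(2,3)
-/

set_option autoImplicit false

namespace CfsgLib.GL23

open Subgroup

variable {G : Type*} [Group G] [Finite G]

/-- An embedding of GL(2,3) as the centraliser of the image of `-1`. -/
structure Emb (G : Type*) [Group G] where
  j : M →* G
  inj : Function.Injective j
  range_eq : centralizer ({j (-1)} : Set G) = j.range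

theorem neg_one_mul_self : (-1 : M) * (-1) = 1 := by simp

theorem neg_one_ne_one : (-1 : M) ≠ 1 := fun h => by
  have := congrArg code h
  rw [code_neg_one, code_one] at this
  omega

theorem eq_neg_one_of_central {u : M} (h2 : u * u = 1) (h1 : u ≠ 1) (hc : ∀ s : M, u * s = s * u) :
    u = -1 := by
  have key : ∀ a ∈ codeList, mulC a a = 28 → a ≠ 28 →
      (∀ b ∈ codeList, mulC a b = mulC b a) → a = 56 := by decide +kernel
  rw [← code_eq_neg_one_iff]
  refine key _ (code_mem u) (by rw [← code_mul, h2, code_one]) (by rwa [Ne, code_eq_one_iff]) ?_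
  intro b hb
  rw [← elemList_map_code, List.mem_map] at hb
  obtain ⟨s, -, rfl⟩ := hb
  rw [← code_mul, ← code_mul, hc s]

omit [Finite G] in
/-- The embedding attached to an isomorphism of the centraliser with GL(2,3). -/
theorem exists_emb {t : G} (ht : orderOf t = 2)
    (e : centralizer ({t} : Set G) ≃* M) : ∃ E : Emb G, E.j (-1) = t := by
  have htm : t ∈ centralizer ({t} : Set G) := mem_centralizer_singleton_iff.mpr rfl
  have het : e ⟨t, htm⟩ = -1 := by
    refine eq_neg_one_of_central ?_ ?_ fun s => ?_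
    · rw [← map_mul]
      have : (⟨t, htm⟩ : centralizer ({t} : Set G)) * ⟨t, htm⟩ = 1 := Subtype.ext (by
        show t * t = 1
        rw [← sq, ← ht, pow_orderOf_eq_one])
      rw [this, map_one]
    · rw [Ne, EmbeddingLike.map_eq_one_iff]
      intro h
      have : t = 1 := congrArg Subtype.val h
      rw [this, orderOf_one] at ht
      omega
    · obtain ⟨c, rfl⟩ := e.surjective s
      rw [← map_mul, ← map_mul]
      exact congrArg e (Subtype.ext (mem_centralizer_singleton_iff.mp c.2).symm)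
  have hj : (((e.symm (-1)) : centralizer ({t} : Set G)) : G) = t := by
    rw [← het, e.symm_apply_apply]
  refine ⟨⟨(centralizer ({t} : Set G)).subtype.comp e.symm.toMonoidHom,
    (Subgroup.subtype_injective _).comp e.symm.injective, ?_⟩, hj⟩
  rw [show ((centralizer ({t} : Set G)).subtype.comp e.symm.toMonoidHom) (-1) = t from hj,
    MonoidHom.range_comp, MonoidHom.range_eq_top.mpr e.symm.surjective, ← MonoidHom.range_eq_map,
    Subgroup.range_subtype]

variable (E : Emb G)

/-- The distinguished involution. -/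
def Emb.t : G := E.j (-1)

omit [Finite G] in
theorem Emb.t_mul_self : E.t * E.t = 1 := by rw [Emb.t, ← map_mul, neg_one_mul_self, map_one]

omit [Finite G] in
theorem Emb.t_ne_one : E.t ≠ 1 := fun h =>
  neg_one_ne_one (E.inj (by rw [map_one]; exact h))

omit [Finite G] in
theorem Emb.mem_range_of_commute {x : G} (h : x * E.t = E.t * x) : x ∈ E.j.range := by
  rw [← E.range_eq]
  exact mem_centralizer_singleton_iff.mpr h

omit [Finite G] in
theorem Emb.card_centralizer : Nat.card (centralizer ({E.t} : Set G)) = 48 := by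
  rw [show centralizer ({E.t} : Set G) = E.j.range from E.range_eq,
    ← Nat.card_congr (MonoidHom.ofInjective E.inj).toEquiv, Nat.card_eq_fintype_card, card_M]

omit [Finite G] in
/-- Conjugates of special elements are conjugate in the centraliser. -/
theorem Emb.mem_range_of_conj {g h : M} (hg : IsSpecial g) (hh : IsSpecial h) {u : G}
    (hu : u * E.j g * u⁻¹ = E.j h) : u ∈ E.j.range := by
  obtain ⟨k, hk, hgk⟩ := hg
  have h1 : E.j (h ^ k) = u * E.t * u⁻¹ := by
    rw [map_pow, ← hu, conj_pow, ← map_pow, hgk]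
    rfl
  have h2 : h ^ k = -1 := by
    refine unique_involution hh hk (E.inj ?_) fun he => E.t_ne_one ?_
    · rw [map_mul, h1, map_one, show u * E.t * u⁻¹ * (u * E.t * u⁻¹) = u * (E.t * E.t) * u⁻¹ by group,
        E.t_mul_self]
      group
    · rw [he, map_one] at h1
      exact conj_eq_one_iff.mp h1.symm
  rw [h2] at h1
  refine E.mem_range_of_commute ?_
  have h3 : u * E.t * u⁻¹ = E.t := h1.symm
  exact mul_inv_eq_iff_eq_mul.mp h3

/-- The 2-subgroup of order 16. -/
def Emb.sylow : Subgroup G := sylowTwo.map E.j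

omit [Finite G] in
theorem Emb.card_sylow : Nat.card E.sylow = 16 := by
  rw [Emb.sylow, card_map_of_injective E.inj, card_sylowTwo]

theorem Emb.eq_sylow {P : Sylow 2 G} (hP : E.sylow ≤ P) : E.sylow = P := by
  haveI : Fact (Nat.Prime 2) := ⟨Nat.prime_two⟩
  by_contra hne
  haveI := P.2.isNilpotent
  have hlt : E.sylow.subgroupOf P < ⊤ := lt_top_iff_ne_top.mpr fun h =>
    hne (le_antisymm hP (subgroupOf_eq_top.mp h))
  obtain ⟨x, hx, hxS⟩ := SetLike.exists_of_lt (Group.normalizerCondition_of_isNilpotent _ hlt)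
  have hn : ∀ a ∈ E.sylow, (x : G) * a * (x : G)⁻¹ ∈ E.sylow := fun a ha =>
    (mem_normalizer_iff.mp hx ⟨a, hP ha⟩).mp ha
  have hn' : ∀ a ∈ E.sylow, (x : G)⁻¹ * a * (x : G) ∈ E.sylow := fun a ha => by
    have hi := inv_mem hx
    have := (mem_normalizer_iff.mp hi ⟨a, hP ha⟩).mp ha
    simpa [mem_subgroupOf] using this
  have hts : E.t ∈ E.sylow := mem_map_of_mem _ (mem_sylowTwo.mpr (by rw [code_neg_one]; decide))
  obtain ⟨u, hu, hju⟩ := hn _ hts
  have hu1 : u = -1 := by
    refine central_involution_sylowTwo hu (E.inj ?_) (fun h => ?_) fun s hs => E.inj ?_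
    · rw [map_mul, hju, map_one]
      calc (x : G) * E.t * (x : G)⁻¹ * ((x : G) * E.t * (x : G)⁻¹)
          = (x : G) * (E.t * E.t) * (x : G)⁻¹ := by group
        _ = 1 := by rw [E.t_mul_self]; group
    · rw [h, map_one] at hju
      exact E.t_ne_one (conj_eq_one_iff.mp hju.symm)
    · obtain ⟨s', -, hs''⟩ := hn' _ (mem_map_of_mem _ hs : E.j s ∈ E.sylow)
      rw [map_mul, map_mul, hju]
      have hcomm : E.t * E.j s' = E.j s' * E.t := by
        rw [Emb.t, ← map_mul, ← map_mul]
        congr 1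
        exact Units.ext (by simp)
      rw [hs''] at hcomm
      calc (x : G) * E.t * (x : G)⁻¹ * E.j s
          = (x : G) * (E.t * ((x : G)⁻¹ * E.j s * (x : G))) * (x : G)⁻¹ := by group
        _ = (x : G) * ((x : G)⁻¹ * E.j s * (x : G) * E.t) * (x : G)⁻¹ := by rw [hcomm]
        _ = E.j s * ((x : G) * E.t * (x : G)⁻¹) := by group
  have hxr : (x : G) ∈ E.j.range := by
    refine E.mem_range_of_commute (mul_inv_eq_iff_eq_mul.mp ?_)
    rw [← hju, hu1]
    rfl
  -- a 2-subgroup of order more than 16 inside a group of order 48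
  have hle : E.sylow ⊔ zpowers (x : G) ≤ (P : Subgroup G) ⊓ E.j.range :=
    le_inf (sup_le hP (zpowers_le.mpr x.2))
      (sup_le (map_le_range _ _) (zpowers_le.mpr hxr))
  obtain ⟨k, hk⟩ := (P.2.to_le (hle.trans inf_le_left)).exists_card_eq
  have hd : Nat.card (E.sylow ⊔ zpowers (x : G) : Subgroup G) ∣ 48 := by
    rw [← E.card_centralizer, show centralizer ({E.t} : Set G) = E.j.range from E.range_eq]
    exact card_dvd_of_le (hle.trans inf_le_right)
  have h16 : Nat.card (E.sylow ⊔ zpowers (x : G) : Subgroup G) ≤ 16 := by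
    rw [hk] at hd ⊢
    have hk6 : k < 6 := by
      by_contra h
      have : 2 ^ 6 ≤ 2 ^ k := Nat.pow_le_pow_right (by norm_num) (by omega)
      have := Nat.le_of_dvd (by norm_num) hd
      omega
    interval_cases k <;> omega
  refine hxS ?_
  show (x : G) ∈ E.sylow
  rw [Subgroup.eq_of_le_of_card_ge (le_sup_left : E.sylow ≤ E.sylow ⊔ zpowers (x : G))
    (h16.trans E.card_sylow.ge)]
  exact mem_sup_right (mem_zpowers _)

theorem Emb.exists_sylow : ∃ P : Sylow 2 G, (P : Subgroup G) = E.sylow := by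
  haveI : Fact (Nat.Prime 2) := ⟨Nat.prime_two⟩
  obtain ⟨P, hP⟩ := (IsPGroup.of_card (p := 2) (n := 4) (G := E.sylow)
    (by rw [E.card_sylow]; norm_num)).exists_le_sylow
  exact ⟨P, (E.eq_sylow hP).symm⟩

include E in
theorem Emb.sixteen_dvd : 16 ∣ Nat.card G :=
  E.card_sylow ▸ card_subgroup_dvd_card E.sylow

include E in
theorem Emb.not_thirtytwo_dvd : ¬ 32 ∣ Nat.card G := by
  haveI : Fact (Nat.Prime 2) := ⟨Nat.prime_two⟩
  intro h
  obtain ⟨P, hP⟩ := E.exists_sylow
  have h32 : 2 ^ 5 ∣ Nat.card (P : Subgroup G) := P.pow_dvd_card_of_pow_dvd_card (by simpa using h)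
  rw [hP, E.card_sylow] at h32
  norm_num at h32

omit [Finite G] in
theorem pResidual_eq_top_of_perfect [Finite G] (hperf : commutator G = ⊤) :
    Cfsg.pResidual 2 G = ⊤ := by
  haveI : Fact (Nat.Prime 2) := ⟨Nat.prime_two⟩
  by_contra hne
  haveI := (Transfer.isPGroup_quotient_pResidual (p := 2) (G := G)).isNilpotent
  haveI : Nontrivial (G ⧸ Cfsg.pResidual 2 G) :=
    not_subsingleton_iff_nontrivial.mp fun h => hne (QuotientGroup.subsingleton_iff.mp h)
  refine (Group.IsSolvable.commutator_lt_top_of_nontrivial (G ⧸ Cfsg.pResidual 2 G)).ne ?_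
  rw [commutator_def, ← Subgroup.map_top_of_surjective (QuotientGroup.mk' (Cfsg.pResidual 2 G))
    (QuotientGroup.mk'_surjective _), ← Subgroup.map_commutator, ← commutator_def, hperf]

/-- There is one class of involutions. -/
theorem Emb.isConj_of_involution_of_pResidual (hres : Cfsg.pResidual 2 G = ⊤) {u : G}
    (h2 : u * u = 1) (h1 : u ≠ 1) : IsConj E.t u := by
  obtain ⟨P, hP⟩ := E.exists_sylow
  set M₀ : Subgroup (P : Subgroup G) := (cyc.map E.j).subgroupOf P with hM₀
  have hle : cyc.map E.j ≤ (P : Subgroup G) := hP ▸ map_mono cyc_le_sylowTwo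
  have hidx : M₀.index = 2 := by
    have h := M₀.card_mul_index
    have h' : Nat.card (P : Subgroup G) = 16 := by rw [hP, E.card_sylow]
    have h8 : Nat.card M₀ = 8 := by
      rw [hM₀, Nat.card_congr (subgroupOfEquivOfLe hle).toEquiv, card_map_of_injective E.inj, card_cyc]
    rw [h8, h'] at h
    omega
  obtain ⟨g, hg, hgM⟩ := Transfer.exists_conj_mem_of_pResidual_eq_top P
    hres M₀ hidx u (by rw [sq, h2])
  obtain ⟨c, hc, hjc⟩ := (mem_subgroupOf.mp hgM : g * u * g⁻¹ ∈ cyc.map E.j)
  have hc1 : c = -1 := by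
    refine involution_cyc hc (E.inj ?_) fun h => h1 ?_
    · rw [map_mul, hjc, map_one]
      calc g * u * g⁻¹ * (g * u * g⁻¹) = g * (u * u) * g⁻¹ := by group
        _ = 1 := by rw [h2]; group
    · rw [h, map_one] at hjc
      exact conj_eq_one_iff.mp hjc.symm
  refine isConj_iff.mpr ⟨g⁻¹, ?_⟩
  rw [Emb.t, ← hc1, hjc]
  group

/-- There is one class of involutions in a perfect group. -/
theorem Emb.isConj_of_involution (hperf : commutator G = ⊤) {u : G} (h2 : u * u = 1) (h1 : u ≠ 1) :
    IsConj E.t u :=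
  E.isConj_of_involution_of_pResidual (pResidual_eq_top_of_perfect hperf) h2 h1

omit [Finite G] in
theorem Emb.involution_of_isConj {u : G} (h : IsConj E.t u) : u * u = 1 ∧ u ≠ 1 := by
  obtain ⟨c, rfl⟩ := isConj_iff.mp h
  refine ⟨?_, fun h => E.t_ne_one (conj_eq_one_iff.mp h)⟩
  calc c * E.t * c⁻¹ * (c * E.t * c⁻¹) = c * (E.t * E.t) * c⁻¹ := by group
    _ = 1 := by rw [E.t_mul_self]; group

end CfsgLib.GL23
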