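import Cfsg.Agent.Lib.GL23.Chars
import Cfsg.Agent.Lib.GL23.Local
import Cfsg.Agent.Lib.GL23.Arith
import Cfsg.Agent.Lib.CharDeep.ClassSum
import Cfsg.Agent.Lib.Char.Exceptional

/-!
# The order of a perfect group with an involution centraliser GL(2,3)
-/

set_option autoImplicit false
set_option maxRecDepth 8000

open scoped ComplexConjugate

namespace CfsgLib.GL23

universe u

variable {G : Type u} [Group G] (E : Emb G)

/-- The centraliser, identified with GL(2,3). -/
noncomputable def Emb.iso : E.j.range ≃* M := (MonoidHom.ofInjective E.inj).symm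

theorem Emb.iso_apply (g : M) (h : E.j g ∈ E.j.range) : E.iso ⟨E.j g, h⟩ = g := by
  rw [Emb.iso, MulEquiv.symm_apply_eq]
  rfl

theorem Emb.j_iso (c : E.j.range) : E.j (E.iso c) = c := by
  obtain ⟨g, rfl⟩ := (MonoidHom.ofInjective E.inj).surjective c
  simp [Emb.iso]
  rfl

/-- The virtual characters of the centraliser. -/
noncomputable def Emb.beta (i : Fin 5) : E.j.range → ℂ := fun c => alpha i (E.iso c)

variable [Fintype G]

/-- The induced virtual characters. -/
noncomputable def Emb.ind (i : Fin 5) : G → ℂ := Cfsg.indFun E.j.range (E.beta i)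

theorem Emb.isGeneralized_ind (i : Fin 5) : Cfsg.IsGeneralizedCharacter G (E.ind i) := by
  obtain ⟨a, b, ha, hb, hab⟩ := isGeneralized_alpha i
  have h : E.beta i = (fun c => a (E.iso c)) - (fun c => b (E.iso c)) := by
    funext c
    simp [Emb.beta, hab]
  rw [Emb.ind, h, Char.indFun_sub]
  exact Char.IsGeneralizedCharacter.sub
    (Char.IsCharacter.isGeneralizedCharacter
      (Char.IsCharacter.indFun _ (Char.IsCharacter.comp ha E.iso.toMonoidHom)))
    (Char.IsCharacter.isGeneralizedCharacter
      (Char.IsCharacter.indFun _ (Char.IsCharacter.comp hb E.iso.toMonoidHom)))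

theorem sum_range_eq (E : Emb G) [Fintype E.j.range] (f : G → ℂ) :
    ∑ c : E.j.range, f c = ∑ g : M, f (E.j g) := by
  refine Fintype.sum_equiv E.iso.toEquiv _ _ fun c => ?_
  rw [MulEquiv.toEquiv_eq_coe, EquivLike.coe_coe, E.j_iso]

/-- Induction does not change the values on special elements. -/
theorem Emb.ind_apply (i : Fin 5) {g : M} (hg : IsSpecial g) : E.ind i (E.j g) = alpha i g := by
  classical
  have hcf := Char.IsGeneralizedCharacter.isClassFunction (isGeneralized_alpha i)
  have hterm : ∀ x : G, Cfsg.extendByZero E.j.range (E.beta i) (x⁻¹ * E.j g * x) =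
      if x ∈ E.j.range then alpha i g else 0 := by
    intro x
    by_cases hx : x ∈ E.j.range
    · obtain ⟨c, rfl⟩ := hx
      rw [if_pos ⟨c, rfl⟩, ← map_inv, ← map_mul, ← map_mul,
        Char.extendByZero_apply_mem _ _ (MonoidHom.mem_range.mpr ⟨_, rfl⟩), Emb.beta, E.iso_apply]
      simpa using hcf g c⁻¹
    · rw [if_neg hx]
      by_cases hm : x⁻¹ * E.j g * x ∈ E.j.range
      · rw [Char.extendByZero_apply_mem _ _ hm]
        obtain ⟨h, hh⟩ := hm
        have hiso : E.iso ⟨x⁻¹ * E.j g * x, ⟨h, hh⟩⟩ = h := by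
          rw [show (⟨x⁻¹ * E.j g * x, ⟨h, hh⟩⟩ : E.j.range) =
            ⟨E.j h, MonoidHom.mem_range.mpr ⟨h, rfl⟩⟩ from Subtype.ext hh.symm]
          exact E.iso_apply h _
        show alpha i _ = 0
        rw [hiso]
        refine alpha_eq_zero i fun hs => hx ?_
        have := E.mem_range_of_conj hg hs (u := x⁻¹) (by rw [inv_inv]; exact hh.symm)
        simpa using inv_mem this
      · exact Char.extendByZero_of_notMem _ _ hm
  rw [Emb.ind, Char.indFun_apply, Finset.sum_congr rfl fun x _ => hterm x, ← Finset.sum_filter,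
    Finset.sum_const, nsmul_eq_mul, ← Fintype.card_subtype, ← Nat.card_eq_fintype_card, ← mul_assoc,
    inv_mul_cancel₀ (Nat.cast_ne_zero.mpr (Nat.card_pos (α := E.j.range)).ne'), one_mul]

theorem Emb.classInner_ind (i : Fin 5) (χ : G → ℂ) (hχ : Cfsg.IsClassFunction G χ) :
    Cfsg.classInner (E.ind i) χ = (48 : ℂ)⁻¹ * ∑ g : M, alpha i g * conj (χ (E.j g)) := by
  classical
  have : Fintype E.j.range := Fintype.ofFinite _
  rw [Emb.ind, Char.classInner_indFun _ _ _ hχ, Cfsg.classInner]
  have hcard : Nat.card E.j.range = 48 := by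
    rw [← Nat.card_congr (MonoidHom.ofInjective E.inj).toEquiv, Nat.card_eq_fintype_card, card_M]
  rw [hcard]
  norm_num
  refine Fintype.sum_equiv E.iso.toEquiv _ _ fun c => ?_
  simp only [MulEquiv.toEquiv_eq_coe, EquivLike.coe_coe]
  rw [E.j_iso]
  rfl

theorem Emb.classInner_ind_ind (i j : Fin 5) :
    Cfsg.classInner (E.ind i) (E.ind j) = (gramEntry i j : ℂ) := by
  rw [E.classInner_ind i (E.ind j) (Char.isClassFunction_indFun _ _)]
  have h : ∀ g : M, alpha i g * conj (E.ind j (E.j g)) = alpha i g * conj (alpha j g) := by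
    intro g
    by_cases hg : IsSpecial g
    · rw [E.ind_apply j hg]
    · rw [alpha_eq_zero i hg, zero_mul, zero_mul]
  rw [Finset.sum_congr rfl fun g _ => h g, sum_alpha_mul_conj]
  push_cast
  ring

theorem Emb.ind_one (i : Fin 5) : E.ind i 1 = 0 := by
  rw [Emb.ind, Char.indFun_apply_one, Emb.beta, map_one, alpha_eq_zero i, mul_zero]
  rintro ⟨k, -, hk⟩
  rw [one_pow] at hk
  exact neg_one_ne_one hk.symm

open Classical in
/-- Pairs of conjugates of the involution with special product. -/
theorem Emb.card_pairs (hperf : commutator G = ⊤) {g : M} (hg : IsSpecial g) :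
    ((Finset.univ.filter (IsConj E.t) ×ˢ Finset.univ.filter (IsConj E.t)).filter
      (fun p : G × G => p.1 * p.2 = E.j g)).card = invPairsC (code g) := by
  rw [← invPairs_eq]
  symm
  refine Finset.card_bij (fun u _ => (E.j u, E.j (u * g))) ?_ ?_ ?_
  · intro u hu
    simp only [Finset.mem_filter, Finset.mem_univ, true_and] at hu
    obtain ⟨h1, h2, h3, h4⟩ := hu
    simp only [Finset.mem_filter, Finset.mem_product, Finset.mem_univ, true_and]
    refine ⟨⟨E.isConj_of_involution hperf (by rw [← map_mul, h1, map_one]) ?_,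
      E.isConj_of_involution hperf (by rw [← map_mul, h3, map_one]) ?_⟩, ?_⟩
    · exact fun h => h2 (E.inj (h.trans (map_one E.j).symm))
    · exact fun h => h4 (E.inj (h.trans (map_one E.j).symm))
    · rw [← map_mul, ← mul_assoc, h1, one_mul]
  · intro u _ v _ h
    exact E.inj (congrArg Prod.fst h)
  · rintro ⟨a, b⟩ h
    simp only [Finset.mem_filter, Finset.mem_product, Finset.mem_univ, true_and] at h
    obtain ⟨⟨ha, hb⟩, hab⟩ := h
    obtain ⟨ha2, ha1⟩ := E.involution_of_isConj ha
    obtain ⟨hb2, hb1⟩ := E.involution_of_isConj hb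
    have hs : IsSpecial g⁻¹ := by
      obtain ⟨k, hk, hgk⟩ := hg
      exact ⟨k, hk, by rw [inv_pow, hgk]; exact inv_eq_of_mul_eq_one_right neg_one_mul_self⟩
    have hinv : a * E.j g * a⁻¹ = E.j g⁻¹ := by
      rw [map_inv, ← hab, mul_inv_rev, inv_eq_of_mul_eq_one_right ha2,
        inv_eq_of_mul_eq_one_right hb2, ← mul_assoc, ha2, one_mul]
    obtain ⟨u, rfl⟩ := E.mem_range_of_conj hg hs hinv
    have hb' : b = E.j (u * g) := by
      rw [map_mul, ← hab, ← mul_assoc, ha2, one_mul]
    subst hb'
    have e1 : u * u = 1 := E.inj (by rw [map_mul, ha2, map_one])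
    have e2 : u * g * (u * g) = 1 := E.inj (by rw [map_mul, hb2, map_one])
    exact ⟨u, Finset.mem_filter.mpr ⟨Finset.mem_univ _, e1, fun h => ha1 (by rw [h, map_one]), e2,
      fun h => hb1 (by rw [h, map_one])⟩, rfl⟩

include E in
/-- The order of a perfect group with an involution centraliser GL(2,3). -/
theorem Emb.card_eq (hperf : commutator G = ⊤) : Nat.card G = 5616 ∨ Nat.card G = 7920 := by
  classical
  choose c hc using fun (i : Fin 5) (χ : Cfsg.IrrCharacter G) =>
    CharExc.exists_int_classInner (E.isGeneralized_ind i) χ.2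
  choose d hd0 hd using fun χ : Cfsg.IrrCharacter G => Char.IsIrrCharacter.exists_degree χ.2
  have hexp : ∀ i, E.ind i = ∑ χ : Cfsg.IrrCharacter G, (c i χ : ℂ) • (χ : G → ℂ) := by
    intro i
    have h := Char.IsClassFunction.eq_sum_classInner
      (Char.IsGeneralizedCharacter.isClassFunction (E.isGeneralized_ind i))
    simpa only [hc] using h
  have hgram : ∀ i j, ∑ χ, c i χ * c j χ = gramEntry i j := by
    intro i j
    have h := E.classInner_ind_ind i j
    rw [hexp i, hexp j, Char.classInner_sum_smul_sum_smul] at h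
    simp only [map_intCast, ← Int.cast_mul, ← Int.cast_sum] at h
    exact_mod_cast h
  have hdeg : ∀ i, ∑ χ, c i χ * (d χ : ℤ) = 0 := by
    intro i
    have h := E.ind_one i
    rw [hexp i, Finset.sum_apply] at h
    simp only [Pi.smul_apply, smul_eq_mul, hd] at h
    exact_mod_cast h
  have hprin : ∀ i, c i Char.principalIrr = if i = 0 ∨ i = 4 then 1 else 0 := by
    intro i
    have h := hc i Char.principalIrr
    rw [E.classInner_ind i _ (Char.IsIrrCharacter.isClassFunction Char.principalIrr.2)] at h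
    simp only [Char.principalIrr_apply, map_one, mul_one, sum_alpha] at h
    refine (Int.cast_inj (α := ℂ)).mp ?_
    rw [← h]
    split_ifs <;> norm_num
  have hmult : ∀ (i : Fin 5) (χ : Cfsg.IrrCharacter G),
      ∑ g : M, alpha i g * conj ((χ : G → ℂ) (E.j g)) = 48 * (c i χ : ℂ) := by
    intro i χ
    have h := hc i χ
    rw [E.classInner_ind i _ (Char.IsIrrCharacter.isClassFunction χ.2)] at h
    rw [← h]
    ring
  let τ : Cfsg.IrrCharacter G → ℤ := fun χ =>
    3 * c 0 χ + c 1 χ + 4 * c 2 χ + 2 * c 3 χ - 2 * c 4 χ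
  have hτ : ∀ χ : Cfsg.IrrCharacter G, (χ : G → ℂ) E.t = (τ χ : ℂ) := by
    intro χ
    have h : ∑ g : M, (3 * alpha 0 g + alpha 1 g + 4 * alpha 2 g + 2 * alpha 3 g - 2 * alpha 4 g) *
        conj ((χ : G → ℂ) (E.j g)) = 48 * conj ((χ : G → ℂ) E.t) := by
      simp only [alpha_indicator, ite_mul, zero_mul, Finset.sum_ite_eq', Finset.mem_univ, if_true]
      rfl
    simp only [add_mul, sub_mul, mul_assoc, Finset.sum_add_distrib, Finset.sum_sub_distrib,
      ← Finset.mul_sum, hmult] at h
    have h' : conj ((χ : G → ℂ) E.t) = (τ χ : ℂ) := by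
      simp only [τ]
      push_cast
      linear_combination (-1 / 48 : ℂ) * h
    rw [← Complex.conj_conj ((χ : G → ℂ) E.t), h', map_intCast]
  set K := (Finset.univ.filter (IsConj E.t)).card with hK
  have hK48 : (K : ℂ) * 48 = (Nat.card G : ℂ) := by
    rw [← Char.card_isConj_mul_card_centralizer E.t, E.card_centralizer, hK,
      Nat.card_eq_fintype_card, Fintype.card_subtype]
    push_cast
    ring
  have hGne : (Nat.card G : ℂ) ≠ 0 := Nat.cast_ne_zero.mpr Nat.card_pos.ne'
  have hrow : ∀ i : Fin 5, (i = 0 ∨ i = 1) → (Nat.card G : ℚ) * ∑ χ : Cfsg.IrrCharacter G,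
      (c i χ : ℚ) * ((τ χ : ℤ) : ℚ) ^ 2 / (d χ : ℚ) = 9216 := by
    intro i hi
    set S : ℂ := ∑ χ : Cfsg.IrrCharacter G, (c i χ : ℂ) * (τ χ : ℂ) ^ 2 / (d χ : ℂ) with hS
    have hterm : ∀ g : M, alpha i g * (invPairsC (code g) : ℂ) = alpha i g *
        ((K : ℂ) * K / (Nat.card G : ℂ) * ∑ χ : Cfsg.IrrCharacter G,
          (τ χ : ℂ) * τ χ * conj ((χ : G → ℂ) (E.j g)) / (d χ : ℂ)) := by
      intro g
      by_cases hg : IsSpecial g
      · have h := CharDeep.ClassSum.card_pairs E.t E.t (E.j g)
        simp only [hτ, hd, ← hK] at h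
        rw [← h, E.card_pairs hperf hg]
      · rw [alpha_eq_zero i hg, zero_mul, zero_mul]
    have h192 : (192 : ℂ) = (K : ℂ) * K / (Nat.card G : ℂ) * (48 * S) := by
      have h := sum_alpha_pairs i
      rw [if_pos hi, Finset.sum_congr rfl fun g _ => hterm g] at h
      push_cast at h
      rw [← h, hS]
      simp only [Finset.mul_sum]
      rw [Finset.sum_comm]
      refine Finset.sum_congr rfl fun χ _ => ?_
      rw [Finset.sum_congr rfl fun g _ => show alpha i g * ((K : ℂ) * K / (Nat.card G : ℂ) *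
          ((τ χ : ℂ) * τ χ * conj ((χ : G → ℂ) (E.j g)) / (d χ : ℂ))) =
          (K : ℂ) * K / (Nat.card G : ℂ) * ((τ χ : ℂ) * τ χ / (d χ : ℂ)) *
            (alpha i g * conj ((χ : G → ℂ) (E.j g))) by ring, ← Finset.mul_sum, hmult]
      ring
    have h2 : (192 : ℂ) * (Nat.card G : ℂ) = (K : ℂ) * K * (48 * S) := by
      rw [h192]
      field_simp
    have hgS : (Nat.card G : ℂ) * S = 9216 := by
      refine mul_left_cancel₀ hGne ?_
      linear_combination (-48 : ℂ) * h2 - S * ((Nat.card G : ℂ) + K * 48) * hK48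
    rw [hS] at hgS
    have hcast : (((Nat.card G : ℚ) * ∑ χ : Cfsg.IrrCharacter G,
        (c i χ : ℚ) * ((τ χ : ℤ) : ℚ) ^ 2 / (d χ : ℚ) : ℚ) : ℂ) = ((9216 : ℚ) : ℂ) := by
      push_cast
      exact hgS
    exact Rat.cast_injective hcast
  let D : Data (Cfsg.IrrCharacter G) :=
    { c := c
      d := d
      o := Char.principalIrr
      g := Nat.card G
      d_pos := hd0
      d_o := by
        have h := hd Char.principalIrr
        rw [Char.principalIrr_apply] at h
        exact_mod_cast h.symm
      linear := fun χ h => by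
        have h1 : (χ : G → ℂ) 1 = 1 := by rw [hd, h, Nat.cast_one]
        obtain ⟨f, hf⟩ := Char.IsCharacter.exists_linear (Char.IsIrrCharacter.isCharacter χ.2) h1
        refine Subtype.ext (funext fun x => ?_)
        have hker : commutator G ≤ MonoidHom.ker f := Abelianization.commutator_subset_ker f
        rw [hf, Char.principalIrr_apply, MonoidHom.mem_ker.mp (hker (hperf ▸ Subgroup.mem_top x)),
          Units.val_one]
      c_o := ⟨hprin 0, hprin 1, hprin 2, hprin 3, hprin 4⟩
      gram00 := hgram 0 0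
      gram11 := hgram 1 1
      gram22 := hgram 2 2
      gram33 := hgram 3 3
      gram44 := hgram 4 4
      gram01 := hgram 0 1
      gram02 := hgram 0 2
      gram03 := hgram 0 3
      gram04 := hgram 0 4
      gram12 := hgram 1 2
      gram13 := hgram 1 3
      gram14 := hgram 1 4
      gram23 := hgram 2 3
      gram24 := hgram 2 4
      gram34 := hgram 3 4
      deg := hdeg
      row := hrow
      g16 := E.sixteen_dvd
      g32 := E.not_thirtytwo_dvd }
  exact D.order_eq

end CfsgLib.GL23
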