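import Cfsg.Agent.Lib.GL23.Recognition
import Cfsg.Agent.Lib.M11Invol.Pattern
import Cfsg.Agent.Lib.Golay.Simple
import Cfsg.Agent.Lib.Linear.Simple

/-!
# The two groups with an involution centraliser GL(2,3) and no proper normal subgroup of 2-power index
-/

set_option autoImplicit false
set_option maxRecDepth 8000

namespace CfsgLib.GL23

open Subgroup Amalgam

universe u

section Structure

variable {G : Type u} [Group G] [Finite G] (E : Emb G)

/-- Every element of the centraliser is a product of involutions of it. -/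
theorem mem_closure_involutions (m : M) :
    m ∈ Subgroup.closure {x : M | x * x = 1} := by
  have ha : la ∈ Subgroup.closure {x : M | x * x = 1} := by
    have h1 : la * lu ∈ Subgroup.closure {x : M | x * x = 1} := Subgroup.subset_closure la_lu_sq
    have h2 : lu ∈ Subgroup.closure {x : M | x * x = 1} := Subgroup.subset_closure lu_sq
    simpa [mul_assoc, lu_sq] using mul_mem h1 h2
  have hm : ∀ x < 4, mletter x ∈ Subgroup.closure {x : M | x * x = 1} := by
    intro x hx
    interval_cases x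
    · exact ha
    · exact inv_mem ha
    · exact Subgroup.subset_closure lw_sq
    · exact Subgroup.subset_closure lu_sq
  obtain ⟨l, -, hl, hc⟩ := exists_genWord _ (code_mem m)
  rw [← prod_eq_of_code hc]
  refine Subgroup.list_prod_mem _ fun y hy => ?_
  obtain ⟨x, hx, rfl⟩ := List.mem_map.mp hy
  exact hm x (hl x hx)

include E in
/-- A group without proper normal subgroup of 2-power index with this centraliser is perfect. -/
theorem Emb.perfect_of_pResidual (hres : Cfsg.pResidual 2 G = ⊤) : commutator G = ⊤ := by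
  haveI : Fact (Nat.Prime 2) := ⟨Nat.prime_two⟩
  set N := commutator G with hN
  have hconj : ∀ v : G, v * v = 1 → v ≠ 1 → ∃ g : G, g * E.t * g⁻¹ = v := fun v h2 h1 =>
    isConj_iff.mp (E.isConj_of_involution_of_pResidual hres h2 h1)
  have hf : ∀ v : G, v * v = 1 → v ≠ 1 → Abelianization.of v = Abelianization.of E.t := by
    intro v h2 h1
    obtain ⟨g, rfl⟩ := hconj v h2 h1
    rw [map_mul, map_mul, map_inv, mul_comm (Abelianization.of g), mul_inv_cancel_right]
  have ht : Abelianization.of E.t = 1 := by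
    have h1 := hf (E.j lu) (by rw [← map_mul, lu_sq, map_one])
      (fun h => lu_ne_one (E.inj (h.trans (map_one E.j).symm)))
    have h2 := hf (E.j (-1 * lu)) (by
        rw [← map_mul, show -1 * lu * (-1 * lu) = 1 by decide +kernel, map_one])
      (fun h => neg_lu_ne_one (E.inj (h.trans (map_one E.j).symm)))
    rw [map_mul, show E.j (-1) = E.t from rfl, map_mul, h1] at h2
    exact mul_eq_right.mp h2
  have hinv : ∀ v : G, v * v = 1 → v ∈ N := by
    intro v h2
    rw [hN, ← Abelianization.ker_of, MonoidHom.mem_ker]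
    by_cases h1 : v = 1
    · rw [h1, map_one]
    · rw [hf v h2 h1, ht]
  have hC : E.j.range ≤ N := by
    rintro _ ⟨m, rfl⟩
    have h : Subgroup.closure {x : M | x * x = 1} ≤ N.comap E.j := (Subgroup.closure_le _).mpr fun x hx => by
      have hx' : x * x = 1 := hx
      exact hinv (E.j x) (by rw [← map_mul, hx', map_one])
    exact h (mem_closure_involutions m)
  obtain ⟨g₀, hg₀⟩ := hconj (E.j lu) (by rw [← map_mul, lu_sq, map_one])
    (fun h => lu_ne_one (E.inj (h.trans (map_one E.j).symm)))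
  obtain ⟨P, hP⟩ := E.exists_sylow
  have hPN : (P : Subgroup G) ≤ N := by rw [hP]; exact (map_le_range _ _).trans hC
  haveI hNn : N.Normal := hN ▸ inferInstance
  have htwo : ∀ g : G, g ∈ N ∨ g * g₀⁻¹ ∈ N := by
    intro g
    have hu2 : g * E.t * g⁻¹ * (g * E.t * g⁻¹) = 1 := by
      calc g * E.t * g⁻¹ * (g * E.t * g⁻¹) = g * (E.t * E.t) * g⁻¹ := by group
        _ = 1 := by rw [E.t_mul_self]; group
    have huN : g * E.t * g⁻¹ ∈ N := hinv _ hu2
    set uN : N := ⟨g * E.t * g⁻¹, huN⟩
    have hu : uN ^ 2 = 1 := Subtype.ext (by rw [SubmonoidClass.coe_pow, sq]; exact hu2)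
    have hp : IsPGroup 2 (zpowers uN) := by
      obtain ⟨k, hk, he⟩ := (Nat.dvd_prime_pow Nat.prime_two (m := 1)).mp
        (by rw [pow_one]; exact orderOf_dvd_of_pow_eq_one hu : orderOf uN ∣ 2 ^ 1)
      exact IsPGroup.of_card (n := k) (by rw [Nat.card_zpowers, he])
    obtain ⟨R, hR⟩ := hp.exists_le_sylow
    obtain ⟨n, hn⟩ := MulAction.exists_smul_eq N R (P.subtype hPN)
    have hmem : n * uN * n⁻¹ ∈ (P.subtype hPN : Subgroup N) := by
      rw [← hn, Sylow.coe_subgroup_smul]
      exact mem_map_of_mem _ (hR (mem_zpowers uN))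
    rw [Sylow.coe_subtype, mem_subgroupOf, hP] at hmem
    obtain ⟨m, -, hm⟩ := hmem
    have hm' : E.j m = (n : G) * (g * E.t * g⁻¹) * (n : G)⁻¹ := hm
    have hm2 : m * m = 1 := E.inj (by
      rw [map_mul, hm', map_one]
      calc (n : G) * (g * E.t * g⁻¹) * (n : G)⁻¹ * ((n : G) * (g * E.t * g⁻¹) * (n : G)⁻¹)
          = (n : G) * (g * E.t * g⁻¹ * (g * E.t * g⁻¹)) * (n : G)⁻¹ := by group
        _ = 1 := by rw [hu2]; group)
    have hm1 : m ≠ 1 := fun h => by
      rw [h, map_one] at hm'
      exact E.t_ne_one (conj_eq_one_iff.mp (conj_eq_one_iff.mp hm'.symm))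
    by_cases hmn : m = -1
    · left
      rw [hmn] at hm'
      have hr : (n : G) * g ∈ E.j.range := E.mem_range_of_commute (by
        refine mul_inv_eq_iff_eq_mul.mp ?_
        rw [Emb.t] at hm' ⊢
        conv_rhs => rw [hm']
        rw [mul_inv_rev]; simp only [mul_assoc])
      simpa [← mul_assoc] using mul_mem (inv_mem n.2) (hC hr)
    · right
      obtain ⟨c, hc⟩ := exists_conj_lu m hm2 hm1 hmn
      have hr : g₀⁻¹ * (E.j c)⁻¹ * (n : G) * g ∈ E.j.range := E.mem_range_of_commute (by
        refine mul_inv_eq_iff_eq_mul.mp ?_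
        calc g₀⁻¹ * (E.j c)⁻¹ * (n : G) * g * E.t * (g₀⁻¹ * (E.j c)⁻¹ * (n : G) * g)⁻¹
            = g₀⁻¹ * ((E.j c)⁻¹ * ((n : G) * (g * E.t * g⁻¹) * (n : G)⁻¹) * E.j c) * g₀ := by group
          _ = g₀⁻¹ * E.j lu * g₀ := by
              rw [← hm', ← map_inv, ← map_mul, ← map_mul, ← hc]
              congr 3
              group
          _ = E.t := by rw [← hg₀]; group)
      have h1 : g * g₀⁻¹ = (n : G)⁻¹ * E.j c * (g₀ * (g₀⁻¹ * (E.j c)⁻¹ * (n : G) * g) * g₀⁻¹) := by group
      rw [h1]
      exact mul_mem (mul_mem (inv_mem n.2) (hC ⟨c, rfl⟩)) (hNn.conj_mem _ (hC hr) _)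
  have hsq : ∀ g : G, g ^ 2 ∈ N := by
    intro g
    rcases htwo g with h | h
    · exact pow_mem h 2
    · rcases htwo (g ^ 2) with h2 | h2
      · exact h2
      · rw [← QuotientGroup.eq_one_iff] at h h2 ⊢
        have hA : (QuotientGroup.mk g : G ⧸ N) = QuotientGroup.mk g₀ := by
          rw [QuotientGroup.mk_mul, QuotientGroup.mk_inv] at h
          exact mul_inv_eq_one.mp h
        rw [QuotientGroup.mk_mul, QuotientGroup.mk_inv, mul_inv_eq_one] at h2
        rw [QuotientGroup.mk_pow, hA, sq] at h2 ⊢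
        have h3 : (QuotientGroup.mk g₀ : G ⧸ N) = 1 := mul_eq_left.mp h2
        rw [h3, one_mul]
  refine top_le_iff.mp (hres ▸ (Subgroup.closure_le _).mpr fun g hg => ?_)
  have h1 : orderOf (QuotientGroup.mk g : G ⧸ N) ∣ orderOf g := orderOf_map_dvd (QuotientGroup.mk' N) g
  have h2 : orderOf (QuotientGroup.mk g : G ⧸ N) ∣ 2 :=
    orderOf_dvd_of_pow_eq_one (by rw [← QuotientGroup.mk_pow, QuotientGroup.eq_one_iff]; exact hsq g)
  rw [SetLike.mem_coe, ← QuotientGroup.eq_one_iff, ← orderOf_eq_one_iff]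
  exact Nat.eq_one_of_dvd_coprimes hg h1 h2

include E in
/-- A simple group with such a centraliser is perfect. -/
theorem Emb.perfect_of_simple [IsSimpleGroup G] : commutator G = ⊤ := by
  refine ((inferInstance : (commutator G).Normal).eq_bot_or_eq_top).resolve_left fun h => ?_
  have hc := (commutator_eq_bot_iff G).mp h
  have hab : lw * lu = lu * lw := E.inj (by
    rw [map_mul, map_mul]
    exact hc.is_comm.comm _ _)
  revert hab
  decide +kernel

include E in
/-- The centraliser of the involution and an element of order 3 generate the group and satisfy the relations. -/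
theorem Emb.exists_rels (hperf : commutator G = ⊤) :
    ∃ (j : M →* G) (s : G), Function.Injective j ∧ span j s = ⊤ ∧
      ∃ c, (c = [0] ∨ c = [1]) ∧ Rels j s c := by
  haveI := Fintype.ofFinite G
  have hcard := E.card_eq hperf
  have h9 : 9 ∣ Nat.card G := by rcases hcard with h | h <;> rw [h] <;> norm_num
  -- after twisting, a nontrivial element of odd order centralises `a` and `u`
  obtain ⟨E', y, hy1, hyo, hya, hyu⟩ : ∃ (E' : Emb G) (y : G), y ≠ 1 ∧ Odd (orderOf y) ∧
      y * E'.j la = E'.j la * y ∧ y * E'.j lu = E'.j lu * y := by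
    obtain ⟨y, hy1, hyo, hya, h | h⟩ := E.exists_fixed h9
    · exact ⟨E, y, hy1, hyo, hya, h⟩
    · refine ⟨E.twisted, y, hy1, hyo, ?_, ?_⟩
      · show y * E.j (twist la) = E.j (twist la) * y
        rw [twist_la]; exact hya
      · show y * E.j (twist lu) = E.j (twist lu) * y
        rw [twist_lu]; exact h
  clear E
  obtain ⟨s, hs⟩ := E'.exists_amal hperf
  set j := E'.j with hjdef
  have hj : Function.Injective j := E'.inj
  -- the element `y` is a conjugate by `s` of an element of order 3 of the centraliser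
  obtain ⟨c, hc⟩ := E'.mem_range_of_commute (x := s⁻¹ * y * s) (by
    calc s⁻¹ * y * s * E'.t = s⁻¹ * (y * (s * j (-1) * s⁻¹)) * s := by
          show _ * j (-1) = _
          group
      _ = s⁻¹ * (s * j (-1) * s⁻¹ * y) * s := by rw [hs.t_u, hyu]
      _ = E'.t * (s⁻¹ * y * s) := by
          show _ = j (-1) * _
          group)
  have hyc : y = s * j c * s⁻¹ := by rw [show j c = s⁻¹ * y * s from hc]; group
  have hc3 : c ^ 3 = 1 := cube_eq_one_of_odd (by
    rw [← orderOf_injective j hj, ← MulEquiv.orderOf_eq (MulAut.conj s), MulAut.conj_apply, ← hyc]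
    exact hyo)
  have hc1 : c ≠ 1 := fun h => hy1 (by rw [hyc, h, map_one]; group)
  have hcomm : Commute (j la) (s * j c * s⁻¹) := hyc ▸ hya.symm
  have hinv : Commute (j la) (s * j c⁻¹ * s⁻¹) := by
    have := hcomm.inv_right
    rwa [show (s * j c * s⁻¹)⁻¹ = s * (j c)⁻¹ * s⁻¹ by group, ← map_inv] at this
  have hla' : Commute (j la) (yy j s) := by
    have hno : ∀ l ∈ ([[0], [3, 2, 0], [0, 3, 2]] : List (List ℕ)),
        (l.map mletter).prod ≠ c ∧ (l.map mletter).prod ≠ c⁻¹ := fun l hl =>
      ⟨fun e => first_stage hj hs hl (e ▸ hcomm), fun e => first_stage hj hs hl (e ▸ hinv)⟩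
    have key : ∀ a ∈ codeList, powC a 3 = 28 → a ≠ 28 → a = code la' ∨ invC a = code la' ∨
        ∃ l ∈ ([[0], [3, 2, 0], [0, 3, 2]] : List (List ℕ)), wordC l = a ∨ wordC l = invC a := by
      decide +kernel
    rcases key _ (code_mem c) (by rw [← code_pow, hc3, code_one]) (by rwa [Ne, code_eq_one_iff]) with
      e | e | ⟨l, hl, e | e⟩
    · rw [yy, ← code_injective e]; exact hcomm
    · rw [← code_inv] at e
      rw [yy, ← code_injective e]; exact hinv
    · exact absurd (prod_eq_of_code e) (hno l hl).1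
    · rw [← code_inv] at e
      exact absurd (prod_eq_of_code e) (hno l hl).2
  -- `s w` swaps `a` and `y` and is conjugate to `t` by `k`
  have hw2 : j lw * j lw = 1 := by rw [← map_mul, lw_sq, map_one]
  have hwi : (j lw)⁻¹ = j lw := inv_eq_of_mul_eq_one_right hw2
  have hwsw : j lw * s * j lw = s⁻¹ := eq_inv_of_mul_eq_one_left hs.w_inv
  have hk : kk j s * j (-1) * (kk j s)⁻¹ = s * j lw := by
    calc kk j s * j (-1) * (kk j s)⁻¹ = s⁻¹ * (j lh * (s * j (-1) * s⁻¹) * (j lh)⁻¹) * s := by
          rw [kk]; group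
      _ = s⁻¹ * j lw * s := by rw [hs.t_u, ← map_inv, ← map_mul, ← map_mul, lh_conj]
      _ = j lw * s * (j lw * j lw) * s := by rw [← hwsw]; group
      _ = j lw * (s * s) := by rw [hw2]; group
      _ = j lw * s⁻¹ := by rw [show s * s = s⁻¹ from eq_inv_of_mul_eq_one_left hs.cube]
      _ = s * j lw := by rw [← hwsw, ← mul_assoc, ← mul_assoc, hw2, one_mul]
  have hra : s * j lw * j la * (s * j lw)⁻¹ = yy j s := by
    rw [yy, la', map_mul, map_mul, mul_inv_rev, hwi]
    group
  have hry : s * j lw * yy j s * (s * j lw)⁻¹ = j la := by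
    have hr2 : s * j lw * (s * j lw) = 1 := by
      rw [show s * j lw * (s * j lw) = s * (j lw * s * j lw) by group, hwsw, mul_inv_cancel]
    rw [← hra, inv_eq_of_mul_eq_one_right hr2]
    calc s * j lw * (s * j lw * j la * (s * j lw)) * (s * j lw)
        = (s * j lw * (s * j lw)) * j la * (s * j lw * (s * j lw)) := by group
      _ = j la := by rw [hr2, one_mul, mul_one]
  obtain ⟨d, hd⟩ := E'.mem_range_of_commute (x := (kk j s)⁻¹ * (j la * yy j s) * kk j s) (by
    refine mul_inv_eq_iff_eq_mul.mp ?_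
    have hfix : s * j lw * (j la * yy j s) * (s * j lw)⁻¹ = j la * yy j s := by
      calc s * j lw * (j la * yy j s) * (s * j lw)⁻¹
          = (s * j lw * j la * (s * j lw)⁻¹) * (s * j lw * yy j s * (s * j lw)⁻¹) := by group
        _ = _ := by rw [hra, hry, hla'.eq]
    have hfix' : j la * yy j s * (s * j lw) * (j la * yy j s)⁻¹ = s * j lw := by
      rw [mul_inv_eq_iff_eq_mul]
      exact (mul_inv_eq_iff_eq_mul.mp hfix).symm
    show (kk j s)⁻¹ * (j la * yy j s) * kk j s * j (-1) * ((kk j s)⁻¹ * (j la * yy j s) * kk j s)⁻¹ =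
      j (-1)
    calc (kk j s)⁻¹ * (j la * yy j s) * kk j s * j (-1) * ((kk j s)⁻¹ * (j la * yy j s) * kk j s)⁻¹
        = (kk j s)⁻¹ * (j la * yy j s * (kk j s * j (-1) * (kk j s)⁻¹) * (j la * yy j s)⁻¹) * kk j s := by
          group
      _ = (kk j s)⁻¹ * (kk j s * j (-1) * (kk j s)⁻¹) * kk j s := by rw [hk, hfix']
      _ = j (-1) := by group)
  have hd3 : d ^ 3 = 1 := hj (by
    rw [map_pow, map_one, show j d = (kk j s)⁻¹ * (j la * yy j s) * ((kk j s)⁻¹)⁻¹ by
      rw [inv_inv]; exact hd, conj_pow, hla'.mul_pow, yy, conj_pow, ← map_pow, ← map_pow, la_cube,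
      show la' ^ 3 = 1 by decide +kernel, map_one]
    group)
  obtain ⟨l, hl, hlp⟩ := exists_cubeWord d hd3
  have hR : Rels j s l := ⟨hs, hla', by rw [hlp, show j d = _ from hd]; group⟩
  refine ⟨j, s, hj, ?_, l, hR.word_cases hj hl, hR⟩
  -- the generated subgroup has the same properties, hence the same order
  set H := span j s with hH
  have hjH : ∀ m, j m ∈ H := fun m => mem_sup_left ⟨m, rfl⟩
  have hsH : s ∈ H := mem_sup_right (mem_zpowers s)
  let jH : M →* H := j.codRestrict H hjH
  let EH : Emb H :=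
    { j := jH
      inj := fun a b h => hj (congrArg Subtype.val h)
      range_eq := by
        ext x
        rw [mem_centralizer_singleton_iff]
        constructor
        · intro h
          obtain ⟨m, hm⟩ := E'.mem_range_of_commute (x := (x : G)) (congrArg Subtype.val h)
          exact ⟨m, Subtype.ext hm⟩
        · rintro ⟨m, rfl⟩
          rw [← map_mul, ← map_mul, neg_one_mul_comm] }
  have hperfH : commutator H = ⊤ := by
    set D := commutator H with hD
    have hcD : ∀ a b : H, a * b * a⁻¹ * b⁻¹ ∈ D := fun a b => by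
      rw [hD, _root_.commutator_def]
      exact commutator_mem_commutator (mem_top a) (mem_top b)
    let sH : H := ⟨s, hsH⟩
    have hlu2 : j lu * j lu = 1 := by rw [← map_mul, lu_sq, map_one]
    have hsD : sH ∈ D := by
      have h1 := hcD (jH lw) sH
      have e : (jH lw * sH * (jH lw)⁻¹ * sH⁻¹ : H) = sH := Subtype.ext (by
        show j lw * s * (j lw)⁻¹ * s⁻¹ = s
        rw [hwi, hwsw, inv_eq_iff_mul_eq_one.mpr (show s * (s * s) = 1 by rw [← mul_assoc]; exact hs.cube)]
        group
        rw [hs.cube, one_mul])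
      rwa [e] at h1
    have hlaD : jH la ∈ D := by
      have h1 := hcD (jH la) (jH lu)
      rwa [← map_mul, ← map_inv, ← map_mul, ← map_inv, ← map_mul,
        show la * lu * la⁻¹ * lu⁻¹ = la⁻¹ by decide +kernel, map_inv, inv_mem_iff] at h1
    have htuD : jH (-1) * jH lu ∈ D := by
      have h1 := hcD sH (jH (-1))
      have e : (sH * jH (-1) * sH⁻¹ * (jH (-1))⁻¹ : H) = jH (-1) * jH lu := Subtype.ext (by
        show s * j (-1) * s⁻¹ * (j (-1))⁻¹ = j (-1) * j lu
        rw [hs.t_u, ← map_inv, ← map_mul, ← map_mul, show lu * (-1 : M)⁻¹ = -1 * lu by decide +kernel])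
      rwa [e] at h1
    have htD : jH (-1) ∈ D := by
      have h1 := hcD (jH lw) (jH lu)
      rwa [← map_mul, ← map_inv, ← map_mul, ← map_inv, ← map_mul,
        show lw * lu * lw⁻¹ * lu⁻¹ = (-1 : M) by decide +kernel] at h1
    have hluD : jH lu ∈ D := by
      have := mul_mem (inv_mem htD) htuD
      rwa [inv_mul_cancel_left] at this
    have hlwD : jH lw ∈ D := by
      -- `w` is conjugate to `u`
      have h2 : jH lw = jH lh * jH lu * (jH lh)⁻¹ := by rw [← map_inv, ← map_mul, ← map_mul, lh_conj]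
      rw [h2]
      exact (inferInstance : (commutator H).Normal).conj_mem _ hluD _
    rw [eq_top_iff]
    have hle : H ≤ D.map H.subtype := by
      refine sup_le ?_ (zpowers_le.mpr ⟨sH, hsD, rfl⟩)
      rintro _ ⟨m, rfl⟩
      obtain ⟨w, -, hw, hwc⟩ := exists_genWord _ (code_mem m)
      refine ⟨jH (w.map mletter).prod, ?_, by rw [prod_eq_of_code hwc]; rfl⟩
      rw [map_list_prod, List.map_map]
      refine Subgroup.list_prod_mem _ fun z hz => ?_
      obtain ⟨x, hx, rfl⟩ := List.mem_map.mp hz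
      have hx4 := hw x hx
      simp only [Function.comp_apply]
      interval_cases x
      · exact hlaD
      · show jH la⁻¹ ∈ D
        rw [map_inv]; exact inv_mem hlaD
      · exact hlwD
      · exact hluD
    intro x _
    obtain ⟨z, hz, e⟩ := hle x.2
    rwa [Subtype.ext e] at hz
  haveI := Fintype.ofFinite H
  have h1 := EH.card_eq hperfH
  have h2 := card_subgroup_dvd_card H
  refine eq_top_of_card_eq H ?_
  rcases h1 with h1 | h1 <;> rcases hcard with h | h <;> rw [h1, h] at h2 ⊢ <;> norm_num at h2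

end Structure

/-- The embedding of GL(2,3) into `M₁₁`. -/
noncomputable def embM11 : Emb ↥Cfsg.Spor.M11 where
  j := CfsgLib.M11Invol.emb
  inj := CfsgLib.M11Invol.emb_injective
  range_eq := CfsgLib.M11Invol.range_emb.symm

/-- `M₁₁` is generated subject to the relations of the first case. -/
theorem exists_rels_M11 : ∃ (j : M →* ↥Cfsg.Spor.M11) (s : ↥Cfsg.Spor.M11),
    span j s = ⊤ ∧ Rels j s [0] := by
  haveI : IsSimpleGroup ↥Cfsg.Spor.M11 := CfsgLib.Golay.isSimple_M11
  obtain ⟨j, s, -, hsp, c, hc, hR⟩ := embM11.exists_rels embM11.perfect_of_simple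
  rcases hc with rfl | rfl
  · exact ⟨j, s, hsp, hR⟩
  · have h := hR.card_le_three.2
    rw [hsp, card_top, CfsgLib.Golay.card_M11] at h
    omega

/-- `L₃(3)` is generated subject to the relations of the second case. -/
theorem exists_rels_L33 : ∃ (j : M →* Matrix.ProjectiveSpecialLinearGroup (Fin 3) (ZMod 3))
    (s : Matrix.ProjectiveSpecialLinearGroup (Fin 3) (ZMod 3)), span j s = ⊤ ∧ Rels j s [1] := by
  haveI : Fact (Nat.Prime 3) := ⟨Nat.prime_three⟩
  haveI : Fact (Nat.Prime 2) := ⟨Nat.prime_two⟩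
  have hF : Fintype.card (ZMod 3) = 3 := ZMod.card 3
  haveI : IsSimpleGroup (Matrix.ProjectiveSpecialLinearGroup (Fin 3) (ZMod 3)) :=
    CfsgLib.Linear.isSimpleGroup_PSL_fin 3 (by norm_num) (by norm_num)
  obtain ⟨t, ht⟩ := exists_prime_orderOf_dvd_card'
    (G := Matrix.ProjectiveSpecialLinearGroup (Fin 3) (ZMod 3)) 2
    (by rw [CfsgLib.M11Invol.card_PSL3 hF]; norm_num)
  obtain ⟨Z, hZn, -, hZc, ⟨eC⟩⟩ :=
    CfsgLib.TwoFusion.PSLThreeInvolution.exists_equiv (by rw [hF]; decide) t ht
  have hZ : Z = ⊥ := eq_bot_of_card_eq _ (by rw [hZc, hF]; rfl)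
  subst hZ
  obtain ⟨E, -⟩ := exists_emb ht (eC.trans QuotientGroup.quotientBot)
  obtain ⟨j, s, -, hsp, c, hc, hR⟩ := E.exists_rels E.perfect_of_simple
  rcases hc with rfl | rfl
  · exfalso
    haveI : IsSimpleGroup ↥Cfsg.Spor.M11 := CfsgLib.Golay.isSimple_M11
    obtain ⟨j', s', hsp', hR'⟩ := exists_rels_M11
    obtain ⟨e⟩ := nonempty_mulEquiv hR hR' hsp hsp'
      (fun X _ j x h => by rw [CfsgLib.Golay.card_M11]; exact h.card_le_eleven)
    have := Nat.card_congr e.toEquiv
    rw [CfsgLib.Golay.card_M11, CfsgLib.M11Invol.card_PSL3 hF] at this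
    omega
  · exact ⟨j, s, hsp, hR⟩

/-- Recognition by an involution centraliser GL(2,3). -/
theorem recognition {G : Type u} [Group G] [Finite G] (hres : Cfsg.pResidual 2 G = ⊤) (E : Emb G) :
    Nonempty (G ≃* Matrix.ProjectiveSpecialLinearGroup (Fin 3) (ZMod 3)) ∨ Cfsg.Spor.IsoM11 G := by
  obtain ⟨j, s, hj, hsp, c, hc, hR⟩ := E.exists_rels (E.perfect_of_pResidual hres)
  haveI : Nontrivial G := ⟨⟨E.t, 1, E.t_ne_one⟩⟩
  rcases hc with rfl | rfl
  · haveI : IsSimpleGroup ↥Cfsg.Spor.M11 := CfsgLib.Golay.isSimple_M11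
    obtain ⟨j', s', hsp', hR'⟩ := exists_rels_M11
    exact Or.inr (nonempty_mulEquiv hR hR' hsp hsp'
      (fun X _ j x h => by rw [CfsgLib.Golay.card_M11]; exact h.card_le_eleven))
  · haveI : Fact (Nat.Prime 3) := ⟨Nat.prime_three⟩
    haveI : IsSimpleGroup (Matrix.ProjectiveSpecialLinearGroup (Fin 3) (ZMod 3)) :=
      CfsgLib.Linear.isSimpleGroup_PSL_fin 3 (by norm_num) (by norm_num)
    obtain ⟨j', s', hsp', hR'⟩ := exists_rels_L33
    exact Or.inl (nonempty_mulEquiv hR hR' hsp hsp'
      (fun X _ j x h => by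
        rw [CfsgLib.M11Invol.card_PSL3 (ZMod.card 3)]
        exact h.card_le_three))

end CfsgLib.GL23
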