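import Cfsg.Agent.Lib.GL23.Elems

/-!
# The group GL(2,3): classes, subgroups and counting facts
-/

set_option autoImplicit false

namespace CfsgLib.GL23

open Matrix

/-- An element of order 8. -/
def y : M where
  val := !![1, 1; 1, 0]
  inv := !![0, 1; 1, 2]
  val_inv := by decide
  inv_val := by decide

/-- Powers on codes. -/
def powC (c : ℕ) : ℕ → ℕ
  | 0 => 28
  | k + 1 => mulC (powC c k) c

theorem code_one : code (1 : M) = 28 := by decide +kernel

theorem code_neg_one : code (-1 : M) = 56 := by decide +kernel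

theorem code_y : code y = 13 := by decide +kernel

theorem code_pow (g : M) (k : ℕ) : code (g ^ k) = powC (code g) k := by
  induction k with
  | zero => rw [pow_zero]; exact code_one
  | succ k ih => rw [pow_succ, code_mul, ih]; rfl

theorem code_eq_one_iff {g : M} : code g = 28 ↔ g = 1 :=
  ⟨fun h => code_injective (h.trans code_one.symm), fun h => h ▸ code_one⟩

theorem code_eq_neg_one_iff {g : M} : code g = 56 ↔ g = -1 :=
  ⟨fun h => code_injective (h.trans code_neg_one.symm), fun h => h ▸ code_neg_one⟩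

/-- The determinant on codes. -/
def detC (c : ℕ) : ℕ := (c % 3 * (c / 27 % 3) + 2 * (c / 3 % 3 * (c / 9 % 3))) % 3

/-- The class index: identity, central involution, noncentral involutions, and elements of
order 3, 6, 4, and the two classes of order 8. -/
def clsC (c : ℕ) : ℕ :=
  if c = 28 then 0 else if c = 56 then 1 else
    if detC c = 1 then
      (if (c % 3 + c / 27 % 3) % 3 = 2 then 3 else if (c % 3 + c / 27 % 3) % 3 = 1 then 4 else 5)
    else (if (c % 3 + c / 27 % 3) % 3 = 0 then 2 else if (c % 3 + c / 27 % 3) % 3 = 1 then 6 else 7)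

/-- Real parts of the five virtual characters on the classes. -/
def reTab : List (List ℤ) :=
  [[0, 8, 0, 0, 2, 0, 2, 2], [0, 8, 0, 0, 2, 0, -2, -2], [0, 4, 0, 0, -2, 2, 0, 0],
    [0, 0, 0, 0, 0, 0, 0, 0], [0, 0, 0, 0, 0, 4, 2, 2]]

/-- Coefficients of `√-2` of the five virtual characters on the classes. -/
def imTab : List (List ℤ) :=
  [[0, 0, 0, 0, 0, 0, 0, 0], [0, 0, 0, 0, 0, 0, 0, 0], [0, 0, 0, 0, 0, 0, -1, 1],
    [0, 0, 0, 0, 0, 0, 2, -2], [0, 0, 0, 0, 0, 0, 0, 0]]

/-- Real part, on codes. -/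
def reC (i c : ℕ) : ℤ := (reTab.getD i []).getD (clsC c) 0

/-- Coefficient of `√-2`, on codes. -/
def imC (i c : ℕ) : ℤ := (imTab.getD i []).getD (clsC c) 0

/-- Real part. -/
def re (i : Fin 5) (g : M) : ℤ := reC i (code g)

/-- Coefficient of `√-2`. -/
def im (i : Fin 5) (g : M) : ℤ := imC i (code g)

/-- The Gram matrix. -/
def gramTab : List (List ℤ) :=
  [[3, 1, 0, 0, 1], [1, 3, 0, 0, -1], [0, 0, 2, -1, 1], [0, 0, -1, 2, 0], [1, -1, 1, 0, 3]]

/-- An entry of the Gram matrix. -/
def gramEntry (i j : Fin 5) : ℤ := (gramTab.getD i []).getD j 0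

/-- Some power is the central involution. -/
def IsSpecial (g : M) : Prop := ∃ k : ℕ, k < 8 ∧ g ^ k = -1

/-- Special elements, on codes. -/
def specialC (c : ℕ) : Bool := (List.range 8).any fun k => decide (powC c k = 56)

theorem isSpecial_iff {g : M} : IsSpecial g ↔ specialC (code g) = true := by
  simp only [IsSpecial, specialC, List.any_eq_true, List.mem_range, decide_eq_true_eq, ← code_pow,
    code_eq_neg_one_iff]

theorem tab_eq_zero (i : Fin 5) {g : M} (h : ¬ IsSpecial g) : re i g = 0 ∧ im i g = 0 := by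
  rw [isSpecial_iff] at h
  have key : ∀ c ∈ codeList, specialC c = false → ∀ i : Fin 5, reC i c = 0 ∧ imC i c = 0 := by
    decide +kernel
  exact key _ (code_mem g) (by simpa using h) i

theorem unique_involution {g : M} (hg : IsSpecial g) {k : ℕ} (hk : k < 8)
    (h2 : g ^ k * g ^ k = 1) (h1 : g ^ k ≠ 1) : g ^ k = -1 := by
  have key : ∀ c ∈ codeList, specialC c = true → ∀ k < 8,
      mulC (powC c k) (powC c k) = 28 → powC c k ≠ 28 → powC c k = 56 := by decide +kernel
  rw [← code_eq_neg_one_iff, code_pow]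
  refine key _ (code_mem g) (isSpecial_iff.mp hg) k hk ?_ ?_
  · rw [← code_pow, ← code_mul, h2, code_one]
  · rw [← code_pow, Ne, code_eq_one_iff]
    exact h1

/-- The number of ways to write an element as a product of two involutions, on codes. -/
def invPairsC (c : ℕ) : ℕ :=
  codeList.countP fun u =>
    decide (mulC u u = 28 ∧ u ≠ 28 ∧ mulC (mulC u c) (mulC u c) = 28 ∧ mulC u c ≠ 28)

theorem invPairs_eq (g : M) :
    (Finset.univ.filter fun u : M => u * u = 1 ∧ u ≠ 1 ∧ u * g * (u * g) = 1 ∧ u * g ≠ 1).card =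
      invPairsC (code g) := by
  rw [invPairsC, ← card_filter_eq_codes]
  refine congrArg Finset.card (Finset.filter_congr fun u _ => ?_)
  simp only [decide_eq_true_eq, Ne, ← code_mul, code_eq_one_iff]

/-- Upper triangular matrices, on codes. -/
def borelC (c : ℕ) : Bool := decide (c / 9 % 3 = 0)

/-- The stabiliser of the first basis vector, on codes. -/
def vecC (c : ℕ) : Bool := decide (c / 9 % 3 = 0 ∧ c % 3 = 1)

/-- The determinant-one elements, on codes. -/
def slC (c : ℕ) : Bool := decide (detC c = 1)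

/-- The normaliser of the cyclic group of order 4 in `⟨y⟩`, on codes. -/
def sylC (c : ℕ) : Bool :=
  decide (mulC c (powC 13 2) = mulC (powC 13 2) c ∨ mulC c (powC 13 2) = mulC (powC 13 6) c)

/-- The cyclic group of order 8, on codes. -/
def cycC (c : ℕ) : Bool := (List.range 8).any fun k => decide (powC 13 k = c)

/-- A set of codes closed under the group operations, as a subgroup. -/
def ofCodes (p : ℕ → Bool) (h1 : p 28 = true)
    (hm : ∀ a ∈ codeList, p a = true → ∀ b ∈ codeList, p b = true → p (mulC a b) = true)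
    (hi : ∀ a ∈ codeList, p a = true → p (invC a) = true) : Subgroup M where
  carrier := {g | p (code g) = true}
  one_mem' := by simp only [Set.mem_ofPred_eq, code_one, h1]
  mul_mem' := fun {a b} ha hb => by
    simp only [Set.mem_ofPred_eq] at ha hb ⊢
    rw [code_mul]
    exact hm _ (code_mem a) ha _ (code_mem b) hb
  inv_mem' := fun {a} ha => by
    simp only [Set.mem_ofPred_eq] at ha ⊢
    rw [code_inv]
    exact hi _ (code_mem a) ha

/-- Upper triangular matrices. -/
def borel : Subgroup M :=
  ofCodes borelC (by decide +kernel) (by decide +kernel) (by decide +kernel)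

/-- The stabiliser of the first basis vector. -/
def vecStab : Subgroup M :=
  ofCodes vecC (by decide +kernel) (by decide +kernel) (by decide +kernel)

/-- The determinant-one subgroup. -/
def special : Subgroup M :=
  ofCodes slC (by decide +kernel) (by decide +kernel) (by decide +kernel)

/-- The normaliser of the cyclic group of order 4 in `⟨y⟩`. -/
def sylowTwo : Subgroup M :=
  ofCodes sylC (by decide +kernel) (by decide +kernel) (by decide +kernel)

/-- The cyclic group of order 8. -/
def cyc : Subgroup M :=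
  ofCodes cycC (by decide +kernel) (by decide +kernel) (by decide +kernel)

theorem mem_borel {g : M} : g ∈ borel ↔ borelC (code g) = true := Iff.rfl
theorem mem_vecStab {g : M} : g ∈ vecStab ↔ vecC (code g) = true := Iff.rfl
theorem mem_special {g : M} : g ∈ special ↔ slC (code g) = true := Iff.rfl
theorem mem_sylowTwo {g : M} : g ∈ sylowTwo ↔ sylC (code g) = true := Iff.rfl
theorem mem_cyc {g : M} : g ∈ cyc ↔ cycC (code g) = true := Iff.rfl

theorem mem_cyc_iff_pow {g : M} : g ∈ cyc ↔ ∃ k : Fin 8, g = y ^ (k : ℕ) := by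
  rw [mem_cyc]
  simp only [cycC, List.any_eq_true, List.mem_range, decide_eq_true_eq, ← code_y, ← code_pow]
  constructor
  · rintro ⟨k, hk, h⟩
    exact ⟨⟨k, hk⟩, (code_injective h).symm⟩
  · rintro ⟨k, rfl⟩
    exact ⟨k, k.2, rfl⟩

theorem card_M : Fintype.card M = 48 := by
  rw [← Finset.card_univ, univ_eq, card_efin]

theorem card_sylowTwo : Nat.card sylowTwo = 16 := by
  classical
  rw [Nat.card_eq_fintype_card, Fintype.card_subtype]
  rw [Finset.filter_congr (q := fun g : M => sylC (code g) = true) (fun g _ => mem_sylowTwo),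
    card_filter_eq_codes]
  decide +kernel

theorem card_cyc : Nat.card cyc = 8 := by
  classical
  rw [Nat.card_eq_fintype_card, Fintype.card_subtype]
  rw [Finset.filter_congr (q := fun g : M => cycC (code g) = true) (fun g _ => mem_cyc),
    card_filter_eq_codes]
  decide +kernel

theorem cyc_le_sylowTwo : cyc ≤ sylowTwo := fun g hg => by
  have key : ∀ c ∈ codeList, cycC c = true → sylC c = true := by decide +kernel
  exact key _ (code_mem g) hg

theorem central_involution_sylowTwo {u : M} (hu : u ∈ sylowTwo) (h2 : u * u = 1) (h1 : u ≠ 1)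
    (hc : ∀ s ∈ sylowTwo, u * s = s * u) : u = -1 := by
  have key : ∀ a ∈ codeList, sylC a = true → mulC a a = 28 → a ≠ 28 →
      (∀ b ∈ codeList, sylC b = true → mulC a b = mulC b a) → a = 56 := by decide +kernel
  rw [← code_eq_neg_one_iff]
  refine key _ (code_mem u) hu (by rw [← code_mul, h2, code_one]) (by rwa [Ne, code_eq_one_iff]) ?_
  intro b hb hsb
  rw [← elemList_map_code, List.mem_map] at hb
  obtain ⟨s, -, rfl⟩ := hb
  rw [← code_mul, ← code_mul, hc s hsb]

theorem involution_cyc {u : M} (hu : u ∈ cyc) (h2 : u * u = 1) (h1 : u ≠ 1) : u = -1 := by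
  have key : ∀ a ∈ codeList, cycC a = true → mulC a a = 28 → a ≠ 28 → a = 56 := by decide +kernel
  rw [← code_eq_neg_one_iff]
  exact key _ (code_mem u) hu (by rw [← code_mul, h2, code_one]) (by rwa [Ne, code_eq_one_iff])

/-- The number of conjugators taking an element into a set, on codes. -/
def cntC (p : ℕ → Bool) (c : ℕ) : ℕ := codeList.countP fun x => p (mulC (mulC (invC x) c) x)

theorem cnt_eq (p : ℕ → Bool) (g : M) :
    (Finset.univ.filter fun x : M => p (code (x⁻¹ * g * x)) = true).card = cntC p (code g) := by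
  rw [cntC, ← card_filter_eq_codes]
  refine congrArg Finset.card (Finset.filter_congr fun x _ => ?_)
  rw [code_mul, code_mul, code_inv]

/-- The number of conjugators taking an element to the `k`th power of `y`, on codes. -/
def ncycC (k c : ℕ) : ℕ := cntC (fun z => decide (z = powC 13 k)) c

theorem ncyc_eq (k : ℕ) (g : M) :
    (Finset.univ.filter fun x : M => x⁻¹ * g * x = y ^ k).card = ncycC k (code g) := by
  rw [ncycC, ← cnt_eq]
  refine congrArg Finset.card (Finset.filter_congr fun x _ => ?_)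
  simp only [decide_eq_true_eq, ← code_y, ← code_pow]
  exact ⟨fun h => by rw [h], fun h => code_injective h⟩

theorem perm_tables (g : M) :
    48 + 6 * (cntC cycC (code g) : ℤ) - 3 * cntC sylC (code g) - 8 * cntC vecC (code g) +
          4 * cntC borelC (code g) = 48 * re 0 g ∧
      2 * (cntC slC (code g) : ℤ) - 96 + 8 * cntC borelC (code g) - 8 * cntC vecC (code g) =
        48 * re 1 g ∧
      3 * (cntC sylC (code g) : ℤ) - 48 - 6 * ((ncycC 0 (code g) : ℤ) - ncycC 4 (code g)) +
          8 * cntC vecC (code g) - 4 * cntC borelC (code g) = 48 * re 2 g ∧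
      -6 * ((ncycC 1 (code g) : ℤ) - ncycC 5 (code g)) = 48 * im 2 g ∧
      12 * ((ncycC 1 (code g) : ℤ) - ncycC 5 (code g)) = 48 * im 3 g ∧
      48 + 3 * (cntC sylC (code g) : ℤ) - 4 * cntC borelC (code g) = 48 * re 4 g ∧
      (ncycC 2 (code g) : ℤ) = ncycC 6 (code g) ∧
      (ncycC 3 (code g) : ℤ) - ncycC 7 (code g) = (ncycC 1 (code g) : ℤ) - ncycC 5 (code g) ∧
      im 0 g = 0 ∧ im 1 g = 0 ∧ re 3 g = 0 ∧ im 4 g = 0 := by
  have key : ∀ c ∈ codeList,
      48 + 6 * (cntC cycC c : ℤ) - 3 * cntC sylC c - 8 * cntC vecC c + 4 * cntC borelC c =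
          48 * reC 0 c ∧
        2 * (cntC slC c : ℤ) - 96 + 8 * cntC borelC c - 8 * cntC vecC c = 48 * reC 1 c ∧
        3 * (cntC sylC c : ℤ) - 48 - 6 * ((ncycC 0 c : ℤ) - ncycC 4 c) + 8 * cntC vecC c -
            4 * cntC borelC c = 48 * reC 2 c ∧
        -6 * ((ncycC 1 c : ℤ) - ncycC 5 c) = 48 * imC 2 c ∧
        12 * ((ncycC 1 c : ℤ) - ncycC 5 c) = 48 * imC 3 c ∧
        48 + 3 * (cntC sylC c : ℤ) - 4 * cntC borelC c = 48 * reC 4 c ∧
        (ncycC 2 c : ℤ) = ncycC 6 c ∧
        (ncycC 3 c : ℤ) - ncycC 7 c = (ncycC 1 c : ℤ) - ncycC 5 c ∧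
        imC 0 c = 0 ∧ imC 1 c = 0 ∧ reC 3 c = 0 ∧ imC 4 c = 0 := by decide +kernel
  exact key _ (code_mem g)

theorem gram_sums (i j : Fin 5) :
    ∑ g : M, (re i g * re j g + 2 * (im i g * im j g)) = 48 * gramEntry i j ∧
      ∑ g : M, (im i g * re j g - re i g * im j g) = 0 := by
  have key : ∀ i j : Fin 5,
      (codeList.map fun c => reC i c * reC j c + 2 * (imC i c * imC j c)).sum =
          48 * gramEntry i j ∧
        (codeList.map fun c => imC i c * reC j c - reC i c * imC j c).sum = 0 := by decide +kernel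
  obtain ⟨h1, h2⟩ := key i j
  rw [← sum_eq_codes] at h1 h2
  exact ⟨h1, h2⟩

theorem principal_sums (i : Fin 5) :
    ∑ g : M, re i g = (if i = 0 ∨ i = 4 then 48 else 0) ∧ ∑ g : M, im i g = 0 := by
  have key : ∀ i : Fin 5, (codeList.map fun c => reC i c).sum = (if i = 0 ∨ i = 4 then 48 else 0) ∧
      (codeList.map fun c => imC i c).sum = 0 := by decide +kernel
  obtain ⟨h1, h2⟩ := key i
  rw [← sum_eq_codes] at h1 h2
  exact ⟨h1, h2⟩

theorem pair_sums (i : Fin 5) :
    ∑ g : M, re i g * invPairsC (code g) = (if i = 0 ∨ i = 1 then 192 else if i = 4 then 96 else 0) ∧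
      ∑ g : M, im i g * invPairsC (code g) = 0 := by
  have key : ∀ i : Fin 5, (codeList.map fun c => reC i c * invPairsC c).sum =
        (if i = 0 ∨ i = 1 then 192 else if i = 4 then 96 else 0) ∧
      (codeList.map fun c => imC i c * invPairsC c).sum = 0 := by decide +kernel
  obtain ⟨h1, h2⟩ := key i
  rw [← sum_eq_codes] at h1 h2
  exact ⟨h1, h2⟩

theorem indicator (g : M) :
    3 * re 0 g + re 1 g + 4 * re 2 g + 2 * re 3 g - 2 * re 4 g = (if g = -1 then 48 else 0) ∧
      3 * im 0 g + im 1 g + 4 * im 2 g + 2 * im 3 g - 2 * im 4 g = 0 := by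
  have key : ∀ c ∈ codeList,
      3 * reC 0 c + reC 1 c + 4 * reC 2 c + 2 * reC 3 c - 2 * reC 4 c = (if c = 56 then 48 else 0) ∧
        3 * imC 0 c + imC 1 c + 4 * imC 2 c + 2 * imC 3 c - 2 * imC 4 c = 0 := by decide +kernel
  obtain ⟨h1, h2⟩ := key _ (code_mem g)
  simp only [code_eq_neg_one_iff] at h1
  exact ⟨h1, h2⟩

end CfsgLib.GL23
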