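import Cfsg.Agent.Lib.GL23.Exceptional
import Cfsg.Agent.Lib.GL23.Amalgam
import Cfsg.Agent.Lib.GL23.Cert.First0
import Cfsg.Agent.Lib.GL23.Cert.First1
import Cfsg.Agent.Lib.GL23.Cert.First2
import Cfsg.Agent.Lib.GL23.Cert.Second0
import Cfsg.Agent.Lib.GL23.Cert.Second1
import Cfsg.Agent.Lib.GL23.Cert.Second2
import Cfsg.Agent.Lib.GL23.Cert.Second3
import Cfsg.Agent.Lib.GL23.Cert.Second4
import Cfsg.Agent.Lib.GL23.Cert.Second5
import Cfsg.Agent.Lib.GL23.Cert.Second6
import Cfsg.Agent.Lib.GL23.Cert.Second7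
import Cfsg.Agent.Lib.GL23.Cert.Second8
import Mathlib.GroupTheory.FixedPointFree

/-!
# Recognition of a group with an involution centraliser GL(2,3)

Such a group with no proper normal subgroup of 2-power index is generated by the centraliser and an element
of order 3, subject to one of two sets of relations; these determine it.
-/

set_option autoImplicit false
set_option maxRecDepth 8000

namespace CfsgLib.GL23

open Subgroup Amalgam

universe u

/-- The lower unitriangular element. -/
def la' : M := lw * la * lw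

/-- An element conjugating `lu` to `lw`. -/
def lh : M := la * lw * la * lu

/-- The automorphism `g ↦ det g • g`. -/
def twist (g : M) : M := if detC (code g) = 1 then g else -1 * g

/-- The automorphism on codes. -/
def twistC (c : ℕ) : ℕ := if detC c = 1 then c else mulC 56 c

theorem code_twist (g : M) : code (twist g) = twistC (code g) := by
  unfold twist twistC
  split
  · rfl
  · rw [code_mul, code_neg_one]

theorem twist_mul (g h : M) : twist (g * h) = twist g * twist h := by
  have key : ∀ a ∈ codeList, ∀ b ∈ codeList, twistC (mulC a b) = mulC (twistC a) (twistC b) := by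
    decide +kernel
  exact code_injective (by rw [code_twist, code_mul, code_mul, code_twist, code_twist,
    key _ (code_mem g) _ (code_mem h)])

theorem twist_twist (g : M) : twist (twist g) = g := by
  have key : ∀ a ∈ codeList, twistC (twistC a) = a := by decide +kernel
  exact code_injective (by rw [code_twist, code_twist, key _ (code_mem g)])

/-- Transfer of a statement about the 48 elements to the codes. -/
theorem forall_of_codes {P : M → Prop} {Q : ℕ → Prop} (hPQ : ∀ g, Q (code g) → P g)
    (h : ∀ c ∈ codeList, Q c) (g : M) : P g := hPQ g (forall_code h g)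

theorem lu_sq : lu * lu = 1 := by decide +kernel
theorem lw_sq : lw * lw = 1 := by decide +kernel
theorem la_cube : la ^ 3 = 1 := by decide +kernel
theorem la_ne_one : la ≠ 1 := by decide +kernel
theorem lu_ne_one : lu ≠ 1 := by decide +kernel
theorem lu_ne_neg_one : lu ≠ -1 := by decide +kernel
theorem neg_lu_ne_one : -1 * lu ≠ 1 := by decide +kernel
theorem lw_lu_lw : lw * lu * lw = -1 * lu := by decide +kernel
theorem lu_la_lu : lu * la * lu = la⁻¹ := by decide +kernel
theorem lh_conj : lh * lu * lh⁻¹ = lw := by decide +kernel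
theorem la_lu_sq : la * lu * (la * lu) = 1 := by decide +kernel
theorem twist_la : twist la = la := by decide +kernel
theorem twist_lu : twist lu = -1 * lu := by decide +kernel
theorem twist_neg_one : twist (-1) = -1 := by decide +kernel

theorem neg_one_mul_comm (g : M) : -1 * g = g * -1 := Units.ext (by simp)

theorem eq_of_commute_lu (g : M) (h : g * lu = lu * g) :
    g = 1 ∨ g = -1 ∨ g = lu ∨ g = -1 * lu := by
  have key : ∀ c ∈ codeList, mulC c (code lu) = mulC (code lu) c →
      c = code (1 : M) ∨ c = code (-1 : M) ∨ c = code lu ∨ c = code (-1 * lu) := by decide +kernel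
  have h' : mulC (code g) (code lu) = mulC (code lu) (code g) := by rw [← code_mul, ← code_mul, h]
  rcases key _ (code_mem g) h' with e | e | e | e
  · exact Or.inl (code_injective e)
  · exact Or.inr (Or.inl (code_injective e))
  · exact Or.inr (Or.inr (Or.inl (code_injective e)))
  · exact Or.inr (Or.inr (Or.inr (code_injective e)))

theorem exists_conj_lu (x : M) (h2 : x * x = 1) (h1 : x ≠ 1) (hn : x ≠ -1) :
    ∃ c : M, c * lu * c⁻¹ = x := by
  have key : ∀ a ∈ codeList, mulC a a = 28 → a ≠ 28 → a ≠ 56 →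
      ∃ c ∈ codeList, mulC (mulC c (code lu)) (invC c) = a := by decide +kernel
  obtain ⟨c, hc, he⟩ := key _ (code_mem x) (by rw [← code_mul, h2, code_one])
    (by rwa [Ne, code_eq_one_iff]) (by rwa [Ne, code_eq_neg_one_iff])
  rw [← elemList_map_code, List.mem_map] at hc
  obtain ⟨g, -, rfl⟩ := hc
  exact ⟨g, code_injective (by rw [code_mul, code_mul, code_inv, he])⟩

theorem eq_of_commute_la (g : M) (h : g * la = la * g) (h3 : g ^ 3 = 1) :
    g = 1 ∨ g = la ∨ g = la⁻¹ := by
  have key : ∀ c ∈ codeList, mulC c (code la) = mulC (code la) c → powC c 3 = 28 →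
      c = code (1 : M) ∨ c = code la ∨ c = code la⁻¹ := by decide +kernel
  have h' : mulC (code g) (code la) = mulC (code la) (code g) := by rw [← code_mul, ← code_mul, h]
  rcases key _ (code_mem g) h' (by rw [← code_pow, h3, code_one]) with e | e | e
  · exact Or.inl (code_injective e)
  · exact Or.inr (Or.inl (code_injective e))
  · exact Or.inr (Or.inr (code_injective e))

/-- An element of odd order of GL(2,3) has order dividing 3. -/
theorem cube_eq_one_of_odd {x : M} (h : Odd (orderOf x)) : x ^ 3 = 1 := by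
  rw [← orderOf_dvd_iff_pow_eq_one]
  have h48 : orderOf x ∣ 16 * 3 := by
    have := orderOf_dvd_card (x := x)
    rwa [card_M] at this
  refine (Nat.Coprime.dvd_of_dvd_mul_left ?_ h48)
  rw [show (16 : ℕ) = 2 ^ 4 by norm_num]
  exact Nat.Coprime.pow_right 4 (Nat.coprime_two_right.mpr h)

/-- The words for the nine elements whose cube is trivial. -/
def cubeWords : List (List ℕ) :=
  [[3, 2, 0], [2, 0, 3], [], [2, 0, 2], [2, 1, 2], [0], [1], [0, 3, 2], [1, 2, 3]]

theorem exists_cubeWord (g : M) (h : g ^ 3 = 1) :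
    ∃ l ∈ cubeWords, (l.map mletter).prod = g := by
  have key : ∀ c ∈ codeList, powC c 3 = 28 → ∃ l ∈ cubeWords, wordC l = c := by decide +kernel
  obtain ⟨l, hl, he⟩ := key _ (code_mem g) (by rw [← code_pow, h, code_one])
  exact ⟨l, hl, prod_eq_of_code he⟩

theorem prod_wa' : (wa'.map mletter).prod = la' := prod_eq_of_code (by decide +kernel)
theorem prod_wh : (wh.map mletter).prod = lh := prod_eq_of_code (by decide +kernel)

section Rels

variable {X : Type*} [Group X]

/-- The element `s a' s⁻¹`. -/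
def yy (j : M →* X) (s : X) : X := s * j la' * s⁻¹

/-- The element `s⁻¹ h s`. -/
def kk (j : M →* X) (s : X) : X := s⁻¹ * j lh * s

/-- The relations that determine the group. -/
structure Rels (j : M →* X) (s : X) (c : List ℕ) : Prop where
  amal : IsAmal j s
  comm : Commute (j la) (yy j s)
  diag : j la * yy j s = kk j s * j (c.map mletter).prod * (kk j s)⁻¹

variable {j : M →* X} {s : X}

theorem word_lt (l : List ℕ) (hl : ∀ x ∈ l, x < 4) :
    ∀ x ∈ [4] ++ l ++ [5], x < 16 := by
  intro x hx
  simp only [List.mem_append, List.mem_singleton] at hx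
  rcases hx with (rfl | hx) | rfl
  · norm_num
  · exact (hl x hx).trans (by norm_num)
  · norm_num

theorem prod_conjWord {l : List ℕ} (hl : ∀ x ∈ l, x < 4) :
    (([4] ++ l ++ [5]).map (letter j s)).prod = s * j (l.map mletter).prod * s⁻¹ := by
  simp only [List.map_append, List.map_cons, List.map_nil, List.prod_append, List.prod_cons,
    List.prod_nil, mul_one, letter_four, letter_five, prod_gl j s hl]

theorem invWord_lt' {l : List ℕ} : ∀ x ∈ CfsgLib.CosetEnum.invWord ip l, x < 16 := by
  intro x hx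
  simp only [CfsgLib.CosetEnum.invWord, List.mem_reverse, List.mem_map] at hx
  obtain ⟨y, -, rfl⟩ := hx
  exact CfsgLib.CosetEnum.linv_lt _ _

theorem commWord_ok {c : List ℕ} (hc : ∀ x ∈ c, x < 4)
    (h : Commute (j la) (s * j (c.map mletter).prod * s⁻¹)) :
    (∀ x ∈ commWord c, x < 16) ∧ ((commWord c).map (letter j s)).prod = 1 := by
  constructor
  · intro x hx
    simp only [commWord, List.mem_append, List.mem_singleton] at hx
    rcases hx with ((rfl | hx) | rfl) | hx
    · norm_num
    · exact word_lt c hc x (by simpa only [List.mem_append, List.mem_singleton] using hx)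
    · norm_num
    · exact invWord_lt' x hx
  · unfold commWord
    rw [List.map_append, List.prod_append, prod_inv (word_lt c hc), List.map_append, List.prod_append,
      List.map_append, List.prod_append, prod_conjWord hc]
    simp only [List.map_cons, List.map_nil, List.prod_cons, List.prod_nil, mul_one]
    rw [show letter j s 0 = j la from rfl, show letter j s 1 = j la⁻¹ from rfl, map_inv, h.eq,
      mul_inv_cancel_right, mul_inv_cancel]

theorem diagWord_ok {c : List ℕ} (hc : ∀ x ∈ c, x < 4)
    (h : j la * yy j s = kk j s * j (c.map mletter).prod * (kk j s)⁻¹) :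
    (∀ x ∈ diagWord c, x < 16) ∧ ((diagWord c).map (letter j s)).prod = 1 := by
  have hwa : ∀ x ∈ wa', x < 4 := by decide
  have hwh : ∀ x ∈ wh, x < 4 := by decide
  have hwk : ∀ x ∈ wk, x < 16 := by decide
  have hk : (wk.map (letter j s)).prod = kk j s := by
    simp only [wk, List.map_append, List.map_cons, List.map_nil, List.prod_append, List.prod_cons,
      List.prod_nil, mul_one, letter_four, letter_five, prod_gl j s hwh, prod_wh]
    rfl
  constructor
  · intro x hx
    simp only [diagWord, List.mem_append, List.mem_singleton] at hx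
    rcases hx with (((rfl | hx) | hx) | hx) | hx
    · norm_num
    · exact word_lt wa' hwa x (by simpa only [List.mem_append, List.mem_singleton] using hx)
    · exact hwk x hx
    · exact invWord_lt' x hx
    · exact invWord_lt' x hx
  · unfold diagWord
    rw [List.map_append, List.prod_append, prod_inv hwk, hk, List.map_append, List.prod_append,
      prod_inv (fun x hx => (hc x hx).trans (by norm_num)), prod_gl j s hc, List.map_append,
      List.prod_append, hk, List.map_append, List.prod_append, prod_conjWord hwa, prod_wa']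
    simp only [List.map_cons, List.map_nil, List.prod_cons, List.prod_nil, mul_one]
    rw [show letter j s 0 = j la from rfl, show j la * (s * j la' * s⁻¹) = j la * yy j s from rfl, h]
    group

theorem Rels.words_ok {c : List ℕ} (hc : ∀ x ∈ c, x < 4) (h : Rels j s c) :
    ∀ l ∈ secondWords c, (∀ x ∈ l, x < 16) ∧ (l.map (letter j s)).prod = 1 := by
  intro l hl
  rcases List.mem_append.mp hl with hl | hl
  · exact amal_ok h.amal l hl
  · simp only [List.mem_cons, List.not_mem_nil, or_false] at hl
    rcases hl with rfl | rfl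
    · exact commWord_ok (by decide) (by rw [prod_wa']; exact h.comm)
    · exact diagWord_ok hc h.diag

/-- The bound in the first case. -/
theorem Rels.card_le_eleven (h : Rels j s [0]) : Finite (span j s) ∧ Nat.card (span j s) ≤ 7920 :=
  Second5.cert.card_le Second5.check (h.words_ok (by decide))

/-- The bound in the second case. -/
theorem Rels.card_le_three (h : Rels j s [1]) : Finite (span j s) ∧ Nat.card (span j s) ≤ 5616 :=
  Second6.cert.card_le Second6.check (h.words_ok (by decide))

/-- The element `s` is outside the centraliser. -/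
theorem _root_.CfsgLib.GL23.Amalgam.IsAmal.not_mem_range (hj : Function.Injective j) (h : IsAmal j s) : s ∉ j.range := by
  rintro ⟨m, rfl⟩
  refine lu_ne_neg_one (hj ?_)
  rw [← h.t_u, ← map_inv, ← map_mul, ← map_mul, ← neg_one_mul_comm, mul_assoc, mul_inv_cancel, mul_one]

theorem mem_range_of_covers (hc : CfsgLib.CosetEnum.CoversCosets (span j s) j.range 1) :
    s ∈ j.range := by
  obtain ⟨u, hu⟩ := hc
  obtain ⟨k, hk, h1⟩ := hu 1 (one_mem _)
  obtain ⟨k', hk', h2⟩ := hu s (mem_sup_right (mem_zpowers s))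
  obtain rfl : k = 0 := by omega
  obtain rfl : k' = 0 := by omega
  have := mul_mem h2 (inv_mem h1)
  simpa [mul_assoc] using this

/-- The commutation with `a` determines the element of the centraliser. -/
theorem first_stage (hj : Function.Injective j) (h : IsAmal j s) {c : List ℕ}
    (hc : c ∈ ([[0], [3, 2, 0], [0, 3, 2]] : List (List ℕ))) :
    ¬ Commute (j la) (s * j (c.map mletter).prod * s⁻¹) := by
  intro hcomm
  have hw : ∀ x ∈ c, x < 4 := by
    have : ∀ l ∈ ([[0], [3, 2, 0], [0, 3, 2]] : List (List ℕ)), ∀ x ∈ l, x < 4 := by decide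
    exact this c hc
  have hok : ∀ l ∈ firstWords c, (∀ x ∈ l, x < 16) ∧ (l.map (letter j s)).prod = 1 := by
    intro l hl
    rcases List.mem_append.mp hl with hl | hl
    · exact amal_ok h l hl
    · rw [List.mem_singleton] at hl
      subst hl
      exact commWord_ok hw hcomm
  refine h.not_mem_range hj (mem_range_of_covers ?_)
  simp only [List.mem_cons, List.not_mem_nil, or_false] at hc
  rcases hc with rfl | rfl | rfl
  · exact First0.cert.covers First0.check hok
  · exact First1.cert.covers First1.check hok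
  · exact First2.cert.covers First2.check hok

theorem Rels.word_cases (hj : Function.Injective j) {c : List ℕ} (hc : c ∈ cubeWords)
    (h : Rels j s c) : c = [0] ∨ c = [1] := by
  have hs := h.amal.not_mem_range hj
  simp only [cubeWords, List.mem_cons, List.not_mem_nil, or_false] at hc
  rcases hc with rfl | rfl | rfl | rfl | rfl | rfl | rfl | rfl | rfl
  · exact absurd (mem_range_of_covers (Second0.cert.covers Second0.check (h.words_ok (by decide)))) hs
  · exact absurd (mem_range_of_covers (Second1.cert.covers Second1.check (h.words_ok (by decide)))) hs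
  · exact absurd (mem_range_of_covers (Second2.cert.covers Second2.check (h.words_ok (by decide)))) hs
  · exact absurd (mem_range_of_covers (Second3.cert.covers Second3.check (h.words_ok (by decide)))) hs
  · exact absurd (mem_range_of_covers (Second4.cert.covers Second4.check (h.words_ok (by decide)))) hs
  · exact Or.inl rfl
  · exact Or.inr rfl
  · exact absurd (mem_range_of_covers (Second7.cert.covers Second7.check (h.words_ok (by decide)))) hs
  · exact absurd (mem_range_of_covers (Second8.cert.covers Second8.check (h.words_ok (by decide)))) hs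

/-- Two groups satisfying the same relations, one of which is simple of the largest possible order. -/
theorem nonempty_mulEquiv.{v, w} {G : Type v} {H : Type w} [Group G] [Group H] [Finite H] [Nontrivial G]
    [IsSimpleGroup H] {c : List ℕ} {j₁ : M →* G} {s₁ : G} {j₂ : M →* H} {s₂ : H}
    (h₁ : Rels j₁ s₁ c) (h₂ : Rels j₂ s₂ c) (g₁ : span j₁ s₁ = ⊤) (g₂ : span j₂ s₂ = ⊤)
    (hbound : ∀ (X : Type (max v w)) [Group X] (j : M →* X) (x : X), Rels j x c →
      Finite (span j x) ∧ Nat.card (span j x) ≤ Nat.card H) :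
    Nonempty (G ≃* H) := by
  let j : M →* G × H := j₁.prod j₂
  let x : G × H := (s₁, s₂)
  have hR : Rels j x c :=
    { amal :=
        { cube := Prod.ext h₁.amal.cube h₂.amal.cube
          t_u := Prod.ext h₁.amal.t_u h₂.amal.t_u
          u_tu := Prod.ext h₁.amal.u_tu h₂.amal.u_tu
          w_inv := Prod.ext h₁.amal.w_inv h₂.amal.w_inv }
      comm := Prod.ext h₁.comm.eq h₂.comm.eq
      diag := Prod.ext h₁.diag h₂.diag }
  obtain ⟨hfin, hle⟩ := hbound (G × H) j x hR
  let f₁ : span j x →* G := (MonoidHom.fst G H).comp (span j x).subtype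
  let f₂ : span j x →* H := (MonoidHom.snd G H).comp (span j x).subtype
  have hx : x ∈ span j x := mem_sup_right (mem_zpowers x)
  have hj : ∀ m, j m ∈ span j x := fun m => mem_sup_left ⟨m, rfl⟩
  have hs₁ : Function.Surjective f₁ := by
    refine MonoidHom.range_eq_top.mp (top_le_iff.mp ?_)
    rw [← g₁]
    refine sup_le ?_ (zpowers_le.mpr ⟨⟨x, hx⟩, rfl⟩)
    rintro _ ⟨m, rfl⟩
    exact ⟨⟨j m, hj m⟩, rfl⟩
  have hs₂ : Function.Surjective f₂ := by
    refine MonoidHom.range_eq_top.mp (top_le_iff.mp ?_)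
    rw [← g₂]
    refine sup_le ?_ (zpowers_le.mpr ⟨⟨x, hx⟩, rfl⟩)
    rintro _ ⟨m, rfl⟩
    exact ⟨⟨j m, hj m⟩, rfl⟩
  have hb₂ : Function.Bijective f₂ := (Nat.bijective_iff_surjective_and_card f₂).mpr
    ⟨hs₂, le_antisymm hle (Nat.card_le_card_of_surjective f₂ hs₂)⟩
  let e₂ : span j x ≃* H := MulEquiv.ofBijective f₂ hb₂
  let f : H →* G := f₁.comp e₂.symm.toMonoidHom
  have hf : Function.Surjective f := hs₁.comp e₂.symm.surjective
  rcases (inferInstance : f.ker.Normal).eq_bot_or_eq_top with hk | hk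
  · exact ⟨(MulEquiv.ofBijective f ⟨f.ker_eq_bot_iff.mp hk, hf⟩).symm⟩
  · obtain ⟨g, hg⟩ := exists_ne (1 : G)
    obtain ⟨z, rfl⟩ := hf g
    exact absurd (MonoidHom.mem_ker.mp (hk ▸ mem_top z)) hg

end Rels

section Structure

variable {G : Type u} [Group G] [Finite G] (E : Emb G)

/-- Conjugate embedding. -/
def Emb.conj (g : G) : Emb G where
  j := (MulAut.conj g).toMonoidHom.comp E.j
  inj := (MulAut.conj g).injective.comp E.inj
  range_eq := by
    ext x
    rw [mem_centralizer_singleton_iff]
    simp only [MonoidHom.mem_range, MonoidHom.coe_comp, MulEquiv.coe_toMonoidHom, Function.comp_apply,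
      MulAut.conj_apply]
    constructor
    · intro hx
      obtain ⟨m, hm⟩ := E.mem_range_of_commute (x := g⁻¹ * x * g) (show g⁻¹ * x * g * E.t =
        E.t * (g⁻¹ * x * g) by
          calc g⁻¹ * x * g * E.t = g⁻¹ * (x * (g * E.t * g⁻¹)) * g := by group
            _ = g⁻¹ * (g * E.t * g⁻¹ * x) * g := by rw [Emb.t, hx]
            _ = E.t * (g⁻¹ * x * g) := by group)
      exact ⟨m, by rw [hm]; group⟩
    · rintro ⟨m, rfl⟩
      rw [show g * E.j m * g⁻¹ * (g * E.j (-1) * g⁻¹) = g * E.j (m * -1) * g⁻¹ by rw [map_mul]; group,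
        ← neg_one_mul_comm, map_mul]
      group

/-- The twisted embedding. -/
def Emb.twisted : Emb G where
  j := E.j.comp (MonoidHom.mk' twist twist_mul)
  inj a b h := by
    have h' := congrArg twist (E.inj h)
    simpa only [MonoidHom.mk'_apply, twist_twist] using h'
  range_eq := by
    show centralizer ({E.j (twist (-1))} : Set G) = _
    rw [twist_neg_one, E.range_eq]
    ext x
    constructor
    · rintro ⟨m, rfl⟩
      exact ⟨twist m, by simp [twist_twist]⟩
    · rintro ⟨m, rfl⟩
      exact ⟨_, rfl⟩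

theorem Emb.t_commute (m : M) : E.t * E.j m = E.j m * E.t := by
  rw [Emb.t, ← map_mul, ← map_mul, neg_one_mul_comm]

theorem Emb.eq_of_commute {g : G} (ht : g * E.t = E.t * g) (hu : g * E.j lu = E.j lu * g) :
    g = 1 ∨ g = E.t ∨ g = E.j lu ∨ g = E.t * E.j lu := by
  obtain ⟨m, rfl⟩ := E.mem_range_of_commute ht
  rw [← map_mul, ← map_mul] at hu
  rcases eq_of_commute_lu m (E.inj hu) with rfl | rfl | rfl | rfl
  · exact Or.inl (map_one _)
  · exact Or.inr (Or.inl rfl)
  · exact Or.inr (Or.inr (Or.inl rfl))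
  · exact Or.inr (Or.inr (Or.inr (map_mul _ _ _)))

/-- An element permuting the four group cyclically has order 3. -/
theorem Emb.cube_of_cycle {q : G} (h₁ : q * E.t * q⁻¹ = E.j lu)
    (h₂ : q * E.j lu * q⁻¹ = E.t * E.j lu) : q * q * q = 1 := by
  have hu2 : E.j lu * E.j lu = 1 := by rw [← map_mul, lu_sq, map_one]
  have h₃ : q * (E.t * E.j lu) * q⁻¹ = E.t := by
    calc q * (E.t * E.j lu) * q⁻¹ = (q * E.t * q⁻¹) * (q * E.j lu * q⁻¹) := by group
      _ = E.j lu * (E.t * E.j lu) := by rw [h₁, h₂]
      _ = E.t * (E.j lu * E.j lu) := by rw [← mul_assoc, ← E.t_commute, mul_assoc]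
      _ = E.t := by rw [hu2, mul_one]
  have ct : q * q * q * E.t = E.t * (q * q * q) := by
    refine mul_inv_eq_iff_eq_mul.mp ?_
    calc q * q * q * E.t * (q * q * q)⁻¹ = q * (q * (q * E.t * q⁻¹) * q⁻¹) * q⁻¹ := by group
      _ = E.t := by rw [h₁, h₂, h₃]
  have cu : q * q * q * E.j lu = E.j lu * (q * q * q) := by
    refine mul_inv_eq_iff_eq_mul.mp ?_
    calc q * q * q * E.j lu * (q * q * q)⁻¹ = q * (q * (q * E.j lu * q⁻¹) * q⁻¹) * q⁻¹ := by group
      _ = E.j lu := by rw [h₂, h₃, h₁]
  have hcomm : q * (q * q * q) * q⁻¹ = q * q * q := by group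
  rcases E.eq_of_commute ct cu with e | e | e | e
  · exact e
  all_goals exfalso; rw [e] at hcomm
  · rw [h₁] at hcomm
    exact lu_ne_neg_one (E.inj hcomm)
  · rw [h₂] at hcomm
    exact E.t_ne_one (mul_eq_right.mp hcomm)
  · rw [h₃] at hcomm
    exact lu_ne_one (E.inj (by rw [map_one]; exact mul_eq_left.mp hcomm.symm))

/-- The element of order 3 completing the amalgam. -/
theorem Emb.exists_amal (hperf : commutator G = ⊤) : ∃ s : G, IsAmal E.j s := by
  have hu2 : E.j lu * E.j lu = 1 := by rw [← map_mul, lu_sq, map_one]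
  have hu1 : E.j lu ≠ 1 := fun h => lu_ne_one (E.inj (h.trans (map_one E.j).symm))
  have hw2 : E.j lw * E.j lw = 1 := by rw [← map_mul, lw_sq, map_one]
  have hwt : E.j lw * E.t = E.t * E.j lw := (E.t_commute lw).symm
  have hwu : E.j lw * E.j lu * E.j lw = E.t * E.j lu := by
    rw [← map_mul, ← map_mul, lw_lu_lw, map_mul]; rfl
  obtain ⟨g, hg⟩ := isConj_iff.mp (E.isConj_of_involution hperf hu2 hu1)
  -- inside the centraliser of `u`
  set E' := E.conj g with hE'
  have hE't : E'.t = E.j lu := hg
  obtain ⟨x, hx⟩ := E'.mem_range_of_commute (x := E.t) (by rw [hE't]; exact E.t_commute lu)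
  have hx2 : x * x = 1 := E'.inj (by rw [map_mul, hx, E.t_mul_self, map_one])
  have hx1 : x ≠ 1 := fun h => E.t_ne_one (by rw [← hx, h, map_one])
  have hxn : x ≠ -1 := fun h => lu_ne_neg_one (E.inj (by
    rw [← hE't]
    show E'.j (-1) = E.t
    rw [← h, hx]))
  obtain ⟨c₁, hc₁⟩ := exists_conj_lu x hx2 hx1 hxn
  have hmx2 : -1 * x * (-1 * x) = 1 := by
    rw [show -1 * x * (-1 * x) = -1 * (x * -1) * x by group, ← neg_one_mul_comm, ← mul_assoc,
      neg_one_mul_self, one_mul, hx2]
  have hmx1 : -1 * x ≠ 1 := fun h => hxn (by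
    have := congrArg (fun m => -1 * m) h
    simpa only [← mul_assoc, neg_one_mul_self, one_mul, mul_one] using this)
  have hmxn : -1 * x ≠ -1 := fun h => hx1 (mul_eq_left.mp h)
  obtain ⟨c₂, hc₂⟩ := exists_conj_lu _ hmx2 hmx1 hmxn
  obtain ⟨d, hd⟩ : ∃ d, d = E'.j (c₂ * c₁⁻¹) := ⟨_, rfl⟩
  have hdt : d * E.t * d⁻¹ = E.t * E.j lu := by
    rw [← hx, hd, ← map_inv, ← map_mul, ← map_mul,
      show c₂ * c₁⁻¹ * x * (c₂ * c₁⁻¹)⁻¹ = -1 * x by rw [← hc₂, ← hc₁]; group, map_mul, hx,
      show E'.j (-1) = E'.t from rfl, hE't, E.t_commute]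
  have hdu : d * E.j lu * d⁻¹ = E.j lu := by
    rw [← hE't, hd, mul_inv_eq_iff_eq_mul]
    exact (E'.t_commute _).symm
  obtain ⟨p, hp⟩ : ∃ p, p = d * E.j lw := ⟨_, rfl⟩
  have hwi : (E.j lw)⁻¹ = E.j lw := inv_eq_of_mul_eq_one_right hw2
  have hpt : p * E.t * p⁻¹ = E.t * E.j lu := by
    calc p * E.t * p⁻¹ = d * (E.j lw * E.t * (E.j lw)⁻¹) * d⁻¹ := by rw [hp]; group
      _ = d * E.t * d⁻¹ := by rw [hwt, mul_inv_cancel_right]
      _ = _ := hdt
  have hpu : p * E.j lu * p⁻¹ = E.t := by
    calc p * E.j lu * p⁻¹ = d * (E.j lw * E.j lu * (E.j lw)⁻¹) * d⁻¹ := by rw [hp]; group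
      _ = (d * E.t * d⁻¹) * (d * E.j lu * d⁻¹) := by rw [hwi, hwu]; group
      _ = E.t := by rw [hdt, hdu, mul_assoc, hu2, mul_one]
  obtain ⟨q, hq⟩ : ∃ q, q = p⁻¹ := ⟨_, rfl⟩
  have hq₁ : q * E.t * q⁻¹ = E.j lu := by rw [hq, ← hpu]; group
  have hq₂ : q * E.j lu * q⁻¹ = E.t * E.j lu := by
    have h : p * (E.t * E.j lu) * p⁻¹ = E.j lu := by
      calc p * (E.t * E.j lu) * p⁻¹ = (p * E.t * p⁻¹) * (p * E.j lu * p⁻¹) := by group
        _ = E.t * (E.j lu * E.t) := by rw [hpt, hpu, mul_assoc]
        _ = E.j lu := by rw [← E.t_commute, ← mul_assoc, E.t_mul_self, one_mul]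
    calc q * E.j lu * q⁻¹ = q * (p * (E.t * E.j lu) * p⁻¹) * q⁻¹ := by rw [h]
      _ = E.t * E.j lu := by rw [hq]; group
  have hq3 := E.cube_of_cycle hq₁ hq₂
  obtain ⟨v, hv⟩ : ∃ v, v = E.j lw * q * E.j lw * q := ⟨_, rfl⟩
  have hwtt : E.j lw * E.t * (E.j lw)⁻¹ = E.t := by rw [hwt, mul_inv_cancel_right]
  have hwuu : E.j lw * E.j lu * (E.j lw)⁻¹ = E.t * E.j lu := by rw [hwi, hwu]
  have hq₃ : q * (E.t * E.j lu) * q⁻¹ = E.t := by
    calc q * (E.t * E.j lu) * q⁻¹ = (q * E.t * q⁻¹) * (q * E.j lu * q⁻¹) := by group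
      _ = E.j lu * (E.t * E.j lu) := by rw [hq₁, hq₂]
      _ = E.t * (E.j lu * E.j lu) := by rw [← mul_assoc, ← E.t_commute, mul_assoc]
      _ = E.t := by rw [hu2, mul_one]
  have hwv : E.j lw * (E.t * E.j lu) * (E.j lw)⁻¹ = E.j lu := by
    rw [← hwuu]
    calc E.j lw * (E.j lw * E.j lu * (E.j lw)⁻¹) * (E.j lw)⁻¹
        = (E.j lw * E.j lw) * E.j lu * (E.j lw * E.j lw)⁻¹ := by group
      _ = E.j lu := by rw [hw2]; group
  have cvt : v * E.t = E.t * v := by
    refine mul_inv_eq_iff_eq_mul.mp ?_
    calc v * E.t * v⁻¹ =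
        E.j lw * (q * (E.j lw * (q * E.t * q⁻¹) * (E.j lw)⁻¹) * q⁻¹) * (E.j lw)⁻¹ := by rw [hv]; group
      _ = E.t := by rw [hq₁, hwuu, hq₃, hwtt]
  have cvu : v * E.j lu = E.j lu * v := by
    refine mul_inv_eq_iff_eq_mul.mp ?_
    calc v * E.j lu * v⁻¹ =
        E.j lw * (q * (E.j lw * (q * E.j lu * q⁻¹) * (E.j lw)⁻¹) * q⁻¹) * (E.j lw)⁻¹ := by rw [hv]; group
      _ = E.j lu := by rw [hq₂, hwv, hq₂, hwv]
  have hvv : E.j lw * v * (E.j lw)⁻¹ = q * v * q⁻¹ := by
    calc E.j lw * v * (E.j lw)⁻¹ = (E.j lw * E.j lw) * q * E.j lw * q * (E.j lw)⁻¹ := by rw [hv]; group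
      _ = q * E.j lw * q * E.j lw := by rw [hw2, one_mul, hwi]
      _ = q * v * q⁻¹ := by rw [hv]; group
  have hne₁ : E.t ≠ E.j lu := fun h => lu_ne_neg_one (E.inj h.symm)
  rcases E.eq_of_commute cvt cvu with e | e | e | e
  · exact ⟨q, hq3, hq₁, hq₂, by rw [← e]; exact hv.symm⟩
  · exfalso
    rw [e, hwtt, hq₁] at hvv
    exact hne₁ hvv
  · have huT : E.t * E.j lu * E.t⁻¹ = E.j lu := by rw [E.t_commute lu, mul_inv_cancel_right]
    refine ⟨q * E.t, ?_, ?_, ?_, ?_⟩
    · refine E.cube_of_cycle ?_ ?_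
      · rw [show q * E.t * E.t * (q * E.t)⁻¹ = q * E.t * q⁻¹ by group]
        exact hq₁
      · rw [show q * E.t * E.j lu * (q * E.t)⁻¹ = q * (E.t * E.j lu * E.t⁻¹) * q⁻¹ by group,
          huT]
        exact hq₂
    · show q * E.t * E.t * (q * E.t)⁻¹ = _
      rw [show q * E.t * E.t * (q * E.t)⁻¹ = q * E.t * q⁻¹ by group]
      exact hq₁
    · show q * E.t * E.j lu * (q * E.t)⁻¹ = _
      rw [show q * E.t * E.j lu * (q * E.t)⁻¹ = q * (E.t * E.j lu * E.t⁻¹) * q⁻¹ by group,
        huT]
      exact hq₂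
    · have h4 : q⁻¹ * E.t * q = E.t * E.j lu := by
        conv_lhs => rw [← hq₃]
        group
      calc E.j lw * (q * E.t) * E.j lw * (q * E.t)
          = E.j lw * q * (E.t * E.j lw) * q * E.t := by group
        _ = v * (q⁻¹ * E.t * q) * E.t := by rw [← hwt, hv]; group
        _ = E.j lu * (E.t * E.j lu) * E.t := by rw [h4, e]
        _ = 1 := by
          rw [← mul_assoc, ← E.t_commute, mul_assoc E.t, hu2, mul_one, E.t_mul_self]
  · exfalso
    rw [e, hwv, hq₃] at hvv
    exact hne₁ hvv.symm

/-- The centraliser of `a` contains a nontrivial element of odd order centralised by `u` or by `tu`. -/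
theorem Emb.exists_fixed (h9 : 9 ∣ Nat.card G) :
    ∃ y : G, y ≠ 1 ∧ Odd (orderOf y) ∧ y * E.j la = E.j la * y ∧
      (y * E.j lu = E.j lu * y ∨ y * E.j (-1 * lu) = E.j (-1 * lu) * y) := by
  classical
  haveI : Fact (Nat.Prime 2) := ⟨Nat.prime_two⟩
  haveI : Fact (Nat.Prime 3) := ⟨Nat.prime_three⟩
  set C : Subgroup G := centralizer ({E.j la} : Set G) with hCdef
  have hCa : ∀ {x : G}, x ∈ C ↔ x * E.j la = E.j la * x := mem_centralizer_singleton_iff
  have htC : E.t ∈ C := hCa.mpr (E.t_commute la)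
  let tC : C := ⟨E.t, htC⟩
  have htC1 : tC ≠ 1 := fun h => E.t_ne_one (congrArg Subtype.val h)
  have htCo : orderOf tC = 2 :=
    orderOf_eq_prime (Subtype.ext (by rw [SubmonoidClass.coe_pow, OneMemClass.coe_one, sq]; exact E.t_mul_self))
      htC1
  have hz : IsPGroup 2 (zpowers tC) := IsPGroup.of_card (n := 1) (by rw [Nat.card_zpowers, htCo, pow_one])
  obtain ⟨P, hP⟩ := hz.exists_le_sylow
  -- a 2-element of `C` commuting with `t` is a power of `t`
  have htwo : ∀ z : C, (∃ k : ℕ, z ^ (2 ^ k) = 1) → z * tC = tC * z → z ∈ zpowers tC := by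
    rintro ⟨z, hzC⟩ ⟨k, hk⟩ hzt
    obtain ⟨m, rfl⟩ := E.mem_range_of_commute (x := z) (congrArg Subtype.val hzt)
    have h1 : m ^ (2 ^ k) = 1 := E.inj (by
      rw [map_pow, map_one]
      exact congrArg Subtype.val hk)
    have h2 : m * la = la * m := E.inj (by rw [map_mul, map_mul]; exact hCa.mp hzC)
    have key : ∀ c ∈ codeList, mulC c (code la) = mulC (code la) c → powC c 2 = 28 ∨ powC c 16 ≠ 28 := by
      decide +kernel
    have h16 : m ^ 16 = 1 := by
      rw [← orderOf_dvd_iff_pow_eq_one]
      obtain ⟨i, hi, he⟩ := (Nat.dvd_prime_pow Nat.prime_two).mp (orderOf_dvd_of_pow_eq_one h1)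
      have h48 : orderOf m ∣ 48 := by
        have := orderOf_dvd_card (x := m)
        rwa [card_M] at this
      rw [he] at h48 ⊢
      refine Nat.Coprime.dvd_of_dvd_mul_right (k := 2 ^ i) (n := 3) ?_ (by simpa using h48)
      exact Nat.Coprime.pow_left i (by norm_num)
    have h2' : mulC (code m) (code la) = mulC (code la) (code m) := by rw [← code_mul, ← code_mul, h2]
    rcases key _ (code_mem m) h2' with e | e
    · rw [← code_pow, code_eq_one_iff] at e
      rw [pow_two] at e
      by_cases hm : m = 1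
      · subst hm
        exact ⟨0, Subtype.ext (by simp)⟩
      · have key2 : ∀ c ∈ codeList, mulC c c = 28 → c ≠ 28 → mulC c (code la) = mulC (code la) c →
            c = 56 := by decide +kernel
        have := key2 _ (code_mem m) (by rw [← code_mul, e, code_one]) (by rwa [Ne, code_eq_one_iff]) h2'
        rw [code_eq_neg_one_iff] at this
        subst this
        exact ⟨1, Subtype.ext (by simp [tC, Emb.t])⟩
    · rw [← code_pow, h16, code_one] at e
      exact absurd rfl e
  have hPeq : (P : Subgroup C) = zpowers tC := by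
    refine le_antisymm ?_ hP
    by_contra hne
    haveI := P.2.isNilpotent
    have hlt : (zpowers tC).subgroupOf P < ⊤ := lt_top_iff_ne_top.mpr fun h =>
      hne (subgroupOf_eq_top.mp h)
    obtain ⟨z, hzn, hzS⟩ := SetLike.exists_of_lt (Group.normalizerCondition_of_isNilpotent _ hlt)
    obtain ⟨k, hk⟩ := P.2 z
    refine hzS (mem_subgroupOf.mpr (htwo z ⟨k, congrArg Subtype.val hk⟩ ?_))
    have h := (mem_normalizer_iff.mp hzn ⟨tC, hP (mem_zpowers _)⟩).mp
      (mem_subgroupOf.mpr (mem_zpowers _))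
    rw [mem_subgroupOf] at h
    obtain ⟨i, hi⟩ := h
    have hi' : tC ^ i = (z : C) * tC * (z : C)⁻¹ := by simpa using hi
    rcases Int.even_or_odd i with ⟨l, hl⟩ | ⟨l, hl⟩
    · rw [hl, ← two_mul, zpow_mul, show tC ^ (2 : ℤ) = 1 by
        rw [show (2 : ℤ) = ((2 : ℕ) : ℤ) from rfl, zpow_natCast, ← htCo, pow_orderOf_eq_one],
        one_zpow] at hi'
      exact absurd (conj_eq_one_iff.mp hi'.symm) htC1
    · rw [hl, zpow_add, zpow_mul, show tC ^ (2 : ℤ) = 1 by
        rw [show (2 : ℤ) = ((2 : ℕ) : ℤ) from rfl, zpow_natCast, ← htCo, pow_orderOf_eq_one],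
        one_zpow, one_mul, zpow_one] at hi'
      exact (mul_inv_eq_iff_eq_mul.mp hi'.symm)
  have hPc : Nat.card (P : Subgroup C) = 2 := by rw [hPeq, Nat.card_zpowers, htCo]
  have hNC : normalizer ((P : Subgroup C) : Set C) ≤ centralizer ((P : Subgroup C) : Set C) := by
    intro z hzn
    rw [mem_centralizer_iff]
    intro h hh
    rw [hPeq] at hh hzn
    have h2 : ∀ w ∈ zpowers tC, w = 1 ∨ w = tC := by
      rintro w ⟨i, rfl⟩
      rcases Int.even_or_odd i with ⟨l, hl⟩ | ⟨l, hl⟩
      · left
        show tC ^ i = 1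
        rw [hl, ← two_mul, zpow_mul, show tC ^ (2 : ℤ) = 1 by
          rw [show (2 : ℤ) = ((2 : ℕ) : ℤ) from rfl, zpow_natCast, ← htCo, pow_orderOf_eq_one], one_zpow]
      · right
        show tC ^ i = tC
        rw [hl, zpow_add, zpow_mul, show tC ^ (2 : ℤ) = 1 by
          rw [show (2 : ℤ) = ((2 : ℕ) : ℤ) from rfl, zpow_natCast, ← htCo, pow_orderOf_eq_one], one_zpow,
          one_mul, zpow_one]
    rcases h2 h hh with rfl | rfl
    · simp
    · rcases h2 _ ((mem_normalizer_iff.mp hzn tC).mp (mem_zpowers _)) with e | e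
      · exact absurd (conj_eq_one_iff.mp e) htC1
      · exact (mul_inv_eq_iff_eq_mul.mp e).symm
  obtain ⟨K₀, hK₀⟩ : ∃ K₀, K₀ = (MonoidHom.transferSylow P hNC).ker := ⟨_, rfl⟩
  have hK₀n : K₀.Normal := hK₀ ▸ inferInstance
  have hodd : ¬ 2 ∣ Nat.card K₀ := hK₀ ▸ MonoidHom.not_dvd_card_ker_transferSylow P hNC
  have hidx : K₀.index = 2 := by
    rw [hK₀, (MonoidHom.ker_transferSylow_isComplement' P hNC).symm.index_eq_card, hPc]
  have hmem : ∀ z : C, Odd (orderOf z) → z ∈ K₀ := by
    intro z hz
    rw [← QuotientGroup.eq_one_iff, ← orderOf_eq_one_iff]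
    have h1 : orderOf (z : C ⧸ K₀) ∣ orderOf z := orderOf_map_dvd (QuotientGroup.mk' K₀) z
    have h2 : orderOf (z : C ⧸ K₀) ∣ 2 := hidx ▸ orderOf_dvd_natCard (z : C ⧸ K₀)
    exact Nat.eq_one_of_dvd_coprimes (Nat.coprime_two_right.mpr hz) h1 h2
  set K : Subgroup G := K₀.map C.subtype with hKdef
  have hK : ∀ x : G, x ∈ K ↔ x * E.j la = E.j la * x ∧ Odd (orderOf x) := by
    intro x
    constructor
    · rintro ⟨z, hz, rfl⟩
      refine ⟨hCa.mp z.2, ?_⟩
      rw [C.coe_subtype, orderOf_coe, ← Nat.not_even_iff_odd, even_iff_two_dvd,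
        ← orderOf_mk z hz]
      exact fun h => hodd (h.trans (orderOf_dvd_natCard _))
    · rintro ⟨h1, h2⟩
      exact ⟨⟨x, hCa.mpr h1⟩, hmem _ (by rwa [← orderOf_coe]), rfl⟩
  have hnine : 9 ∣ Nat.card K := by
    have hao : orderOf (E.j la) = 3 := by
      rw [orderOf_injective _ E.inj, orderOf_eq_prime_iff]
      exact ⟨la_cube, la_ne_one⟩
    obtain ⟨Q, hQ⟩ := (IsPGroup.of_card (p := 3) (n := 1) (G := zpowers (E.j la))
      (by rw [Nat.card_zpowers, hao, pow_one])).exists_le_sylow
    have haQ : E.j la ∈ (Q : Subgroup G) := hQ (mem_zpowers _)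
    have hQ9 : 9 ∣ Nat.card (Q : Subgroup G) := by
      have := Q.pow_dvd_card_of_pow_dvd_card (n := 2) (by simpa using h9)
      simpa using this
    haveI : Nontrivial (Q : Subgroup G) := Finite.one_lt_card_iff_nontrivial.mp
      (lt_of_lt_of_le (by norm_num) (Nat.le_of_dvd Nat.card_pos hQ9))
    have hZ := Q.2.center_nontrivial
    -- a 3-subgroup of `C` of order at least 9
    have hsub : 9 ∣ Nat.card C := by
      by_cases hac : (⟨E.j la, haQ⟩ : (Q : Subgroup G)) ∈ center (Q : Subgroup G)
      · refine hQ9.trans (card_dvd_of_le fun x hx => hCa.mpr ?_)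
        exact congrArg Subtype.val (mem_center_iff.mp hac ⟨x, hx⟩)
      · set R : Subgroup (Q : Subgroup G) := zpowers ⟨E.j la, haQ⟩ ⊔ center (Q : Subgroup G) with hR
        have hR1 : zpowers (⟨E.j la, haQ⟩ : (Q : Subgroup G)) < R := by
          refine lt_of_le_of_ne le_sup_left fun h => hac ?_
          have hle : center (Q : Subgroup G) ≤ zpowers ⟨E.j la, haQ⟩ := h ▸ le_sup_right
          have hZc : Nat.card (center (Q : Subgroup G)) ∣ 3 := by
            have := card_dvd_of_le hle
            rwa [Nat.card_zpowers, orderOf_mk, hao] at this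
          rcases (Nat.dvd_prime Nat.prime_three).mp hZc with h1 | h3
          · exact absurd h1 Finite.one_lt_card.ne'
          · rw [eq_of_le_of_card_ge hle (by rw [Nat.card_zpowers, orderOf_mk, hao, h3])]
            exact mem_zpowers _
        have hR9 : 9 ∣ Nat.card R := by
          obtain ⟨n, hn⟩ := IsPGroup.iff_card.mp (Q.2.to_subgroup R)
          rw [hn]
          refine (show 9 = 3 ^ 2 by norm_num) ▸ pow_dvd_pow 3 ?_
          by_contra hlt
          refine hR1.ne (eq_of_le_of_card_ge hR1.le ?_)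
          rw [Nat.card_zpowers, orderOf_mk, hao, hn]
          calc 3 ^ n ≤ 3 ^ 1 := Nat.pow_le_pow_right (by norm_num) (by omega)
            _ = 3 := by norm_num
        have hRle : R.map (Q : Subgroup G).subtype ≤ C := by
          rw [map_le_iff_le_comap, hR, sup_le_iff]
          refine ⟨zpowers_le.mpr (hCa.mpr rfl), fun z hz => hCa.mpr ?_⟩
          exact (congrArg Subtype.val (mem_center_iff.mp hz ⟨E.j la, haQ⟩)).symm
        have := card_dvd_of_le hRle
        rw [card_map_of_injective (subtype_injective _)] at this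
        exact hR9.trans this
    rw [card_map_of_injective (subtype_injective _)]
    have hci := K₀.card_mul_index
    rw [hidx] at hci
    rw [← hci] at hsub
    exact Nat.Coprime.dvd_of_dvd_mul_right (by norm_num) hsub
  -- conjugation by an involution of the four group
  have hinv : ∀ v : M, v * v = 1 → v * la * v = la⁻¹ → (∀ y ∈ K, y * E.j v = E.j v * y → y = 1) →
      ∀ y ∈ K, E.j v * y * E.j v = y⁻¹ := by
    intro v hv hva hfix
    have hv2 : E.j v * E.j v = 1 := by rw [← map_mul, hv, map_one]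
    have hvi : (E.j v)⁻¹ = E.j v := inv_eq_of_mul_eq_one_right hv2
    have hvaG : E.j v * E.j la * E.j v = (E.j la)⁻¹ := by rw [← map_mul, ← map_mul, hva, map_inv]
    have hmap : ∀ y : K, E.j v * y * E.j v ∈ K := fun y => by
      obtain ⟨h1, h2⟩ := (hK y).mp y.2
      refine (hK _).mpr ⟨?_, ?_⟩
      · have h1' : (y : G) * (E.j la)⁻¹ = (E.j la)⁻¹ * y := (Commute.inv_right h1).eq
        have hva' : E.j v * (E.j la)⁻¹ * E.j v = E.j la := by
          rw [← hvaG]
          calc E.j v * (E.j v * E.j la * E.j v) * E.j v =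
              (E.j v * E.j v) * E.j la * (E.j v * E.j v) := by group
            _ = E.j la := by rw [hv2, one_mul, mul_one]
        calc E.j v * y * E.j v * E.j la
            = E.j v * y * (E.j v * E.j la * E.j v) * (E.j v)⁻¹ := by group
          _ = E.j v * ((E.j la)⁻¹ * y) * E.j v := by rw [hvaG, hvi, mul_assoc (E.j v), h1']
          _ = E.j v * (E.j la)⁻¹ * E.j v * ((E.j v)⁻¹ * y * E.j v) := by group
          _ = E.j la * (E.j v * y * E.j v) := by rw [hva', hvi]
      · rw [show E.j v * y * E.j v = MulAut.conj (E.j v) (y : G) by rw [MulAut.conj_apply, hvi],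
          MulEquiv.orderOf_eq]
        exact h2
    let φ : K →* K := MonoidHom.mk' (fun y => ⟨E.j v * y * E.j v, hmap y⟩) fun a b => Subtype.ext (by
      show E.j v * ((a : G) * b) * E.j v = E.j v * a * E.j v * (E.j v * b * E.j v)
      calc E.j v * ((a : G) * b) * E.j v = E.j v * a * 1 * b * E.j v := by group
        _ = _ := by rw [← hv2]; group)
    have hφ : MonoidHom.FixedPointFree φ := fun y hy => Subtype.ext (hfix y y.2 (by
      have h : E.j v * y * E.j v = (y : G) := congrArg Subtype.val hy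
      calc (y : G) * E.j v = E.j v * y * (E.j v * E.j v) := by rw [← mul_assoc, h]
        _ = E.j v * y := by rw [hv2, mul_one]))
    have hinvol : Function.Involutive φ := fun y => Subtype.ext (by
      show E.j v * (E.j v * y * E.j v) * E.j v = (y : G)
      calc E.j v * (E.j v * y * E.j v) * E.j v = (E.j v * E.j v) * y * (E.j v * E.j v) := by group
        _ = y := by rw [hv2, one_mul, mul_one])
    intro y hy
    exact congrArg Subtype.val (congrFun (MonoidHom.FixedPointFree.coe_eq_inv_of_involutive hφ hinvol) ⟨y, hy⟩)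
  by_contra hno
  push Not at hno
  have hu := hinv lu lu_sq lu_la_lu fun y hy hc => by
    by_contra h1
    exact (hno y h1 ((hK y).mp hy).2 ((hK y).mp hy).1).1 hc
  have htu := hinv (-1 * lu) (by decide +kernel) (by decide +kernel) fun y hy hc => by
    by_contra h1
    exact (hno y h1 ((hK y).mp hy).2 ((hK y).mp hy).1).2 hc
  have hle : K ≤ zpowers (E.j la) := by
    intro y hy
    have h1 := hu y hy
    have h2 := htu _ (inv_mem hy)
    rw [inv_inv, map_mul, show E.j (-1) = E.t from rfl, ← h1] at h2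
    have hty : y * E.t = E.t * y := by
      have hu2 : E.j lu * E.j lu = 1 := by rw [← map_mul, lu_sq, map_one]
      have h3 : E.t * y * E.t = y :=
        calc E.t * y * E.t = E.t * ((E.j lu * E.j lu) * y * (E.j lu * E.j lu)) * E.t := by
              rw [hu2, one_mul, mul_one]
          _ = E.t * E.j lu * (E.j lu * y * E.j lu) * (E.j lu * E.t) := by group
          _ = y := by rw [← E.t_commute]; exact h2
      calc y * E.t = E.t * y * (E.t * E.t) := by rw [← mul_assoc, h3]
        _ = E.t * y := by rw [E.t_mul_self, mul_one]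
    obtain ⟨m, rfl⟩ := E.mem_range_of_commute hty
    obtain ⟨hma, hmo⟩ := (hK _).mp hy
    rw [orderOf_injective _ E.inj] at hmo
    rcases eq_of_commute_la m (E.inj (by rw [map_mul, map_mul]; exact hma)) (cube_eq_one_of_odd hmo) with
      rfl | rfl | rfl
    · rw [map_one]; exact one_mem _
    · exact mem_zpowers _
    · rw [map_inv]; exact inv_mem (mem_zpowers _)
  have h3 := Nat.le_of_dvd Nat.card_pos (hnine.trans (card_dvd_of_le hle))
  rw [Nat.card_zpowers, orderOf_injective _ E.inj,
    show orderOf la = 3 from orderOf_eq_prime la_cube la_ne_one] at h3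
  omega

end Structure

end CfsgLib.GL23
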